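import Groth.Agent.SteinConn.Semicont
import Groth.Agent.FPModelLib.ProperModel
import Groth.Agent.FPModelLib.Fibre
import Groth.Agent.GeomRk.Fibre
import Groth.Agent.UnivOpenAtLib.Dvr
import Groth.Agent.FibreDepth.Loci

/-!
# Geometric components of proper flat families with geometrically reduced fibres
-/

set_option autoImplicit false
set_option backward.isDefEq.respectTransparency false
set_option linter.style.haveILetI false
set_option linter.unusedSectionVars false

universe u

open CategoryTheory CategoryTheory.Limits AlgebraicGeometry TopologicalSpace Topology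

noncomputable section

namespace Groth.Agent.SteinConn

theorem geometricallyReduced_iff_forall_at {k : Type u} [Field k] {X : Scheme.{u}} (t : X ⟶ Spec (CommRingCat.of k)) :
    GeometricallyReduced t ↔ ∀ x, FBase.IsGeomReducedAt t x := by
  rw [geometricallyReduced_iff, geometrically_iff_of_commRing_of_isClosedUnderIsomorphisms]
  refine ⟨fun h x K _ _ x' _ => ?_, fun h K _ _ => ?_⟩
  · haveI : IsReduced (FBase.bc t K) := h K
    infer_instance
  · haveI : ∀ x' : FBase.bc t K, _root_.IsReduced ((FBase.bc t K).presheaf.stalk x') :=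
      fun x' => h (FBase.bcπ t K x') K x' rfl
    exact isReduced_of_isReduced_stalk (FBase.bc t K)

variable {X S : Scheme.{u}} (f : X ⟶ S) [IsProper f] [Flat f] [LocallyOfFinitePresentation f]

theorem isOpen_geometricallyReduced_fibres :
    IsOpen {s : S | GeometricallyReduced (f.fiberToSpecResidueField s)} := by
  simp only [fun s => geometricallyReduced_iff_forall_at (k := S.residueField s) (f.fiberToSpecResidueField s)]
  exact FibreDepth.isOpen_forall_fiber _ (GeomRk.isOpen_geomReduced_of_flat f)
    (fun s z => FBase.IsGeomReducedAt (f.fiberToSpecResidueField s) z) fun x => Iff.rfl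

theorem exists_nGeomConnComp_const_flat (s : S) (hs : GeometricallyReduced (f.fiberToSpecResidueField s)) :
    ∃ V ∈ 𝓝 s, ∀ z ∈ V, MoreMor.nGeomConnComp f z = MoreMor.nGeomConnComp f s := by
  obtain ⟨U, hU, hsU, -⟩ := exists_isAffineOpen_mem_and_subset (X := S) (x := s) (U := ⊤) trivial
  haveI : IsAffine (U : Scheme.{u}) := hU
  haveI : IsProper (f ∣_ U) := MorphismProperty.of_isPullback (isPullback_morphismRestrict f U).flip ‹_›
  haveI : Flat (f ∣_ U) := MorphismProperty.of_isPullback (isPullback_morphismRestrict f U).flip ‹_›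
  haveI : LocallyOfFinitePresentation (f ∣_ U) := MorphismProperty.of_isPullback (isPullback_morphismRestrict f U).flip ‹_›
  obtain ⟨i, X₀, f₀, q, hlfp, hp, hfl, hsq⟩ := FPModelLib.exists_proper_flat_zmodel (f ∣_ U)
  haveI := hlfp
  haveI := hp
  haveI := hfl
  have hcU := (isPullback_morphismRestrict f U).flip
  let p := FPModelLib.zπ (U : Scheme.{u}) i
  let s' : (U : Scheme.{u}) := ⟨s, hsU⟩
  have hred : GeometricallyReduced (f₀.fiberToSpecResidueField (p s')) := by
    rw [← FPModelLib.geometricallyReduced_fiber_iff hsq s']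
    exact (FPModelLib.geometricallyReduced_fiber_iff hcU s').2 hs
  obtain ⟨V, hV, hVc⟩ := GenIrredLib.exists_nGeomConnComp_const f₀ (p s')
    (fun x _ => UnivOpenAtLib.universallyOpen_iff_forall.1 (inferInstance : UniversallyOpen f₀) x) hred
  refine ⟨U.ι '' (p ⁻¹' V), ?_, ?_⟩
  · exact U.ι.isOpenEmbedding.isOpenMap.image_mem_nhds (p.continuous.continuousAt.preimage_mem_nhds hV)
  · rintro _ ⟨z, hz, rfl⟩
    have e : ∀ w : (U : Scheme.{u}), MoreMor.nGeomConnComp f (U.ι w) = MoreMor.nGeomConnComp f₀ (p w) := fun w =>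
      (congrArg Prod.snd (GenIrredLib.nGeom_baseChange f (f ∣_ U) (f ⁻¹ᵁ U).ι U.ι hcU w)).symm.trans
        (congrArg Prod.snd (GenIrredLib.nGeom_baseChange f₀ (f ∣_ U) q p hsq w))
    exact (e z).trans ((hVc _ hz).trans (e s').symm)

theorem isLocallyConstant_nGeomConnComp [GeometricallyReduced f] :
    IsLocallyConstant (fun s : S => MoreMor.nGeomConnComp f s) := by
  refine IsLocallyConstant.iff_eventually_eq _ |>.2 fun s => ?_
  obtain ⟨V, hV, hVc⟩ := exists_nGeomConnComp_const_flat f s (MorphismProperty.pullback_snd _ _ ‹_›)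
  exact Filter.mem_of_superset hV hVc

theorem isOpen_geometricallyReduced_nGeom_eq (k : ℕ∞) :
    IsOpen {s : S | GeometricallyReduced (f.fiberToSpecResidueField s) ∧ MoreMor.nGeomConnComp f s = k} := by
  refine isOpen_iff_mem_nhds.2 fun s hs => ?_
  obtain ⟨V, hV, hVc⟩ := exists_nGeomConnComp_const_flat f s hs.1
  exact Filter.mem_of_superset (Filter.inter_mem ((isOpen_geometricallyReduced_fibres f).mem_nhds hs.1) hV)
    fun z hz => ⟨hz.1, (hVc z hz.2).trans hs.2⟩

end Groth.Agent.SteinConn
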