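import Groth.Agent.SteinConn.Conn
import Groth.Agent.Normaliz.Basic
import Groth.Agent.S1297
import Groth.Prelude.Def_ega3

/-!
# The Stein factorisation over a locally Noetherian base
-/

set_option autoImplicit false
set_option backward.isDefEq.respectTransparency false
set_option linter.style.haveILetI false
set_option linter.unusedSectionVars false

universe u

open CategoryTheory CategoryTheory.Limits AlgebraicGeometry TopologicalSpace

noncomputable section

namespace Groth.Agent.SteinConn

variable {X Y : Scheme.{u}} (f : X ⟶ Y) [IsProper f]

instance isProper_toNormalization : IsProper f.toNormalization := by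
  haveI : IsProper (f.toNormalization ≫ f.fromNormalization) := by
    rw [f.toNormalization_fromNormalization]; infer_instance
  exact IsProper.of_comp _ f.fromNormalization

theorem bijApp_toNormalization : RigidLib.BijApp f.toNormalization := fun U =>
  haveI := NormalizationLemmas.isIso_toNormalization_app f U
  ConcreteCategory.bijective_of_isIso (f.toNormalization.app U)

variable [IsLocallyNoetherian Y]

theorem isLocallyNoetherian_normalization : IsLocallyNoetherian f.normalization :=
  haveI := S1297.result f
  LocallyOfFiniteType.isLocallyNoetherian f.fromNormalization

theorem geometricallyConnected_toNormalization : GeometricallyConnected f.toNormalization :=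
  haveI := isLocallyNoetherian_normalization f
  geometricallyConnected _ (bijApp_toNormalization f)

/-- The fibres of the finite part list the connected components of the fibres. -/
theorem fibre_components (y : Y) :
    Finite ↥(f.fromNormalization.fiber y) ∧
    Function.Surjective (CohIII.fiberMapOver f.toNormalization f f.fromNormalization
        f.toNormalization_fromNormalization y).base ∧
    ∀ x x' : ↥(f.fiber y),
      (CohIII.fiberMapOver f.toNormalization f f.fromNormalization f.toNormalization_fromNormalization y).base x =
        (CohIII.fiberMapOver f.toNormalization f f.fromNormalization f.toNormalization_fromNormalization y).base x' ↔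
      connectedComponent x = connectedComponent x' := by
  haveI := isLocallyNoetherian_normalization f
  haveI := S1297.result f
  have hu : ∀ x, f.fromNormalization.fiberι y
      ((CohIII.fiberMapOver f.toNormalization f f.fromNormalization f.toNormalization_fromNormalization y).base x) =
      f.toNormalization (f.fiberι y x) := fun x => by
    rw [← Scheme.Hom.comp_apply, ← Scheme.Hom.comp_apply]
    exact congrArg (fun t : f.fiber y ⟶ f.normalization => t x) (pullback.lift_fst _ _ _)
  generalize CohIII.fiberMapOver f.toNormalization f f.fromNormalization f.toNormalization_fromNormalization y = u at hu ⊢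
  have hy : ∀ p, f.fromNormalization (f.fromNormalization.fiberι y p) = y := fun p =>
    (Set.ext_iff.1 (f.fromNormalization.range_fiberι y) _).1 ⟨p, rfl⟩
  haveI : Finite ↥(f.fromNormalization.fiber y) := by
    haveI := (f.fromNormalization.finite_preimage_singleton y).to_subtype
    exact Finite.of_equiv _ (f.fromNormalization.fiberHomeo y).toEquiv.symm
  have hfib : ∀ p, _root_.IsPreconnected (u ⁻¹' {p}) ∧ (u ⁻¹' {p}).Nonempty := fun p => by
    haveI := connectedSpace_fiber f.toNormalization (bijApp_toNormalization f) (f.fromNormalization.fiberι y p)
    have h1 : _root_.IsPreconnected (f.toNormalization ⁻¹' {f.fromNormalization.fiberι y p}) := by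
      rw [← f.toNormalization.range_fiberι]
      exact isPreconnected_range (f.toNormalization.fiberι _).continuous
    have h2 : f.fiberι y '' (u ⁻¹' {p}) = f.toNormalization ⁻¹' {f.fromNormalization.fiberι y p} := by
      refine Set.Subset.antisymm ?_ fun z hz => ?_
      · rintro _ ⟨x, hx, rfl⟩
        exact (hu x).symm.trans (congrArg _ hx)
      · obtain ⟨x, rfl⟩ : z ∈ Set.range (f.fiberι y) := by
          rw [f.range_fiberι]
          show f z = y
          rw [← hy p, ← (show f.toNormalization z = _ from hz), ← Scheme.Hom.comp_apply,
            f.toNormalization_fromNormalization]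
        exact ⟨x, (f.fromNormalization.fiberι y).isEmbedding.injective ((hu x).trans hz), rfl⟩
    refine ⟨(f.fiberι y).isEmbedding.isInducing.isPreconnected_image.1 (h2 ▸ h1), ?_⟩
    obtain ⟨z⟩ := (inferInstance : Nonempty ↥(f.toNormalization.fiber (f.fromNormalization.fiberι y p)))
    obtain ⟨x, hx, -⟩ : f.toNormalization.fiberι _ z ∈ f.fiberι y '' (u ⁻¹' {p}) :=
      h2 ▸ (Set.ext_iff.1 (f.toNormalization.range_fiberι _) _).1 ⟨z, rfl⟩
    exact ⟨x, hx⟩
  haveI : DiscreteTopology ↥(f.fromNormalization.fiber y) := inferInstance
  refine ⟨inferInstance, fun p => (hfib p).2, fun x x' => ⟨fun h => ?_, fun h => ?_⟩⟩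
  · exact connectedComponent_eq ((hfib (u x')).1.subset_connectedComponent h rfl)
  · exact (isPreconnected_connectedComponent.image u.base u.continuous.continuousOn).subsingleton
      ⟨x, mem_connectedComponent, rfl⟩ ⟨x', h.symm ▸ mem_connectedComponent, rfl⟩

end Groth.Agent.SteinConn
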