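import Groth.Prelude.Def_CAlg2
import Mathlib

/-!
# Maximal ideals of integral closures in algebraic extensions
-/

set_option autoImplicit false
set_option linter.style.haveILetI false
set_option linter.unusedSectionVars false

universe u

noncomputable section

namespace Groth.Agent.SteinConn

variable (A : Type u) [CommRing A] (K L : Type u) [Field K] [Field L] [Algebra A K] [Algebra A L]
  [Algebra K L] [IsScalarTower A K L]

/-- The inclusion of integral closures along a field extension. -/
def closureMap : integralClosure A K →+* integralClosure A L :=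
  (((algebraMap K L).comp (integralClosure A K).val.toRingHom)).codRestrict (integralClosure A L).toSubring
    fun x => IsIntegral.map (IsScalarTower.toAlgHom A K L) x.2

theorem closureMap_isIntegral : (closureMap A K L).IsIntegral := fun x => by
  letI := (closureMap A K L).toAlgebra
  haveI : IsScalarTower A (integralClosure A K) (integralClosure A L) :=
    IsScalarTower.of_algebraMap_eq fun r => Subtype.ext (IsScalarTower.algebraMap_apply A K L r)
  exact (Algebra.IsIntegral.isIntegral (R := A) x).tower_top

/-- The contraction of maximal ideals along the inclusion of integral closures. -/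
def maxContract (M : MaximalSpectrum (integralClosure A L)) : MaximalSpectrum (integralClosure A K) :=
  ⟨M.asIdeal.comap (closureMap A K L), by
    letI := (closureMap A K L).toAlgebra
    haveI : Algebra.IsIntegral (integralClosure A K) (integralClosure A L) := ⟨closureMap_isIntegral A K L⟩
    haveI := M.isMaximal
    exact Ideal.isMaximal_comap_of_isIntegral_of_isMaximal (R := integralClosure A K) M.asIdeal⟩

/-- A radicial extension does not add maximal ideals. -/
theorem maxContract_injective
    (h : ∀ x : L, IsIntegral A x → ∃ N : ℕ, 0 < N ∧ x ^ N ∈ Set.range (algebraMap K L)) :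
    Function.Injective (maxContract A K L) := by
  have key : ∀ M M' : MaximalSpectrum (integralClosure A L), maxContract A K L M = maxContract A K L M' →
      M.asIdeal ≤ M'.asIdeal := fun M M' e x hx => by
    obtain ⟨N, hN, k, hk⟩ := h x x.2
    have hk' : IsIntegral A k := (isIntegral_algHom_iff (IsScalarTower.toAlgHom A K L)
      (algebraMap K L).injective).1 (show IsIntegral A (algebraMap K L k) from hk ▸ x.2.pow N)
    have h1 : closureMap A K L ⟨k, hk'⟩ = x ^ N := Subtype.ext hk
    have h2 : (⟨k, hk'⟩ : integralClosure A K) ∈ (maxContract A K L M).asIdeal := by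
      show closureMap A K L ⟨k, hk'⟩ ∈ M.asIdeal
      rw [h1]
      exact Ideal.pow_mem_of_mem _ hx N hN
    rw [e] at h2
    have h3 : x ^ N ∈ M'.asIdeal := h1 ▸ h2
    exact M'.isMaximal.isPrime.mem_of_pow_mem N h3
  exact fun M M' e => MaximalSpectrum.ext (le_antisymm (key M M' e) (key M' M e.symm))

/-- A radicial extension of a fraction field keeps the integral closure local. -/
theorem subsingleton_of_radicial [Subsingleton (MaximalSpectrum (integralClosure A K))]
    (h : ∀ x : L, IsIntegral A x → ∃ N : ℕ, 0 < N ∧ x ^ N ∈ Set.range (algebraMap K L)) :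
    Subsingleton (MaximalSpectrum (integralClosure A L)) :=
  (maxContract_injective A K L h).subsingleton

/-- The integral closure of an integrally closed local domain is local. -/
theorem subsingleton_self [IsLocalRing A] [IsFractionRing A K] [IsIntegrallyClosed A] :
    Subsingleton (MaximalSpectrum (integralClosure A K)) := by
  have hs : Function.Surjective (algebraMap A (integralClosure A K)) := fun x => by
    obtain ⟨a, ha⟩ := IsIntegrallyClosed.isIntegral_iff.1 x.2
    exact ⟨a, Subtype.ext ha⟩
  have hl : IsLocalRing (integralClosure A K) := IsLocalRing.of_surjective' _ hs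
  exact ⟨fun M M' => MaximalSpectrum.ext
    ((IsLocalRing.eq_maximalIdeal M.isMaximal).trans (IsLocalRing.eq_maximalIdeal M'.isMaximal).symm)⟩

/-- The integral closure of a unibranch local domain in its fraction field is local. -/
theorem subsingleton_of_unibranch [IsDomain A] [IsLocalRing A] [IsFractionRing A K] (hA : CAlg2.IsUnibranch A) :
    Subsingleton (MaximalSpectrum (integralClosure A K)) := by
  haveI := hA.1
  haveI := hA.2
  let F := FractionRing (CAlg2.red A)
  have hbij : Function.Bijective (algebraMap A (CAlg2.red A)) := by
    refine ⟨?_, Ideal.Quotient.mk_surjective⟩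
    rw [injective_iff_map_eq_zero]
    intro a ha
    exact IsReduced.eq_zero a (mem_nilradical.1 (Ideal.Quotient.eq_zero_iff_mem.1 ha))
  let e₀ : A ≃+* CAlg2.red A := RingEquiv.ofBijective (algebraMap A (CAlg2.red A)) hbij
  let e : K ≃+* F := IsFractionRing.ringEquivOfRingEquiv e₀
  have he : ∀ a, e (algebraMap A K a) = algebraMap A F a := fun a => by
    rw [IsFractionRing.ringEquivOfRingEquiv_algebraMap, IsScalarTower.algebraMap_apply A (CAlg2.red A) F]
    rfl
  let φ : K →ₐ[A] F := { e.toRingHom with commutes' := he }
  have hint : ∀ x : K, IsIntegral A x → IsIntegral (CAlg2.red A) (e x) := fun x hx =>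
    (hx.map φ).tower_top
  let i : integralClosure A K →+* CAlg2.normRed A :=
    (e.toRingHom.comp (integralClosure A K).val.toRingHom).codRestrict
      (integralClosure (CAlg2.red A) F).toSubring fun x => hint x x.2
  have hi : Function.Surjective i := fun z => by
    have hz : IsIntegral A (z : F) := by
      haveI : Algebra.IsIntegral A (CAlg2.red A) :=
        Algebra.IsIntegral.of_surjective (Algebra.ofId A (CAlg2.red A)) Ideal.Quotient.mk_surjective
      exact isIntegral_trans (R := A) (A := CAlg2.red A) _ z.2
    have h1 : IsIntegral A (e.symm z) :=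
      (isIntegral_algHom_iff φ e.injective).1 (show IsIntegral A (e (e.symm z)) by rwa [e.apply_symm_apply])
    exact ⟨⟨e.symm z, h1⟩, Subtype.ext (e.apply_symm_apply _)⟩
  have hii : Function.Injective i := fun x y h => Subtype.ext (e.injective (congrArg Subtype.val h))
  haveI : IsLocalRing (integralClosure A K) := (RingEquiv.ofBijective i ⟨hii, hi⟩).symm.isLocalRing
  exact ⟨fun M M' => MaximalSpectrum.ext
    ((IsLocalRing.eq_maximalIdeal M.isMaximal).trans (IsLocalRing.eq_maximalIdeal M'.isMaximal).symm)⟩

/-- Galois conjugacy bounds the maximal ideals by the embeddings. -/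
theorem natCard_le_of_separable [IsIntegrallyClosed A] [IsLocalRing A] [IsFractionRing A K]
    [FiniteDimensional K L] [Algebra.IsSeparable K L] :
    Finite (MaximalSpectrum (integralClosure A L)) ∧
      Nat.card (MaximalSpectrum (integralClosure A L)) ≤ Module.finrank K L := by
  haveI : IsDomain A := Function.Injective.isDomain _ (IsFractionRing.injective A K)
  let Ω := SeparableClosure K
  let ι : L →ₐ[K] Ω := IsSepClosed.lift
  let E : IntermediateField K Ω := IntermediateField.normalClosure K L Ω
  haveI : Normal K E := normalClosure.normal K L Ω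
  haveI : FiniteDimensional K E := normalClosure.is_finiteDimensional K L Ω
  haveI : IsGalois K E := IsGalois.normalClosure K L Ω
  haveI : IsScalarTower A K E :=
    IsScalarTower.of_algebraMap_eq fun r => Subtype.ext (IsScalarTower.algebraMap_apply A K Ω r)
  haveI : IsFractionRing (integralClosure A E) E := integralClosure.isFractionRing_of_finite_extension K E
  have hmem : ∀ (σ : L →ₐ[K] Ω) (x : L), σ x ∈ E := fun σ x =>
    (AlgHom.fieldRange_le_normalClosure σ) ⟨x, rfl⟩
  let ι' : L →ₐ[K] E := ι.codRestrict E.toSubalgebra (hmem ι)
  let B := integralClosure A E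
  haveI : IsIntegralClosure B A E := inferInstance
  letI := IsIntegralClosure.MulSemiringAction A K E B
  haveI : SMulCommClass Gal(E/K) A B := ⟨fun g a b => (galRestrict A K E B g).toAlgHom.toLinearMap.map_smul a b⟩
  haveI : Algebra.IsInvariant A B Gal(E/K) := Algebra.isInvariant_of_isGalois A K E B
  haveI : Algebra.IsIntegral A B := IsIntegralClosure.isIntegral_algebra A E
  obtain ⟨P₀, hP₀⟩ := Ideal.exists_maximal B
  let restr : (L →ₐ[K] E) → (integralClosure A L →+* B) := fun σ =>
    ((σ.restrictScalars A).toRingHom.comp (integralClosure A L).val.toRingHom).codRestrict B.toSubring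
      fun x => IsIntegral.map (σ.restrictScalars A) x.2
  have hint : ∀ σ, (restr σ).IsIntegral := fun σ x => by
    letI := (restr σ).toAlgebra
    haveI : IsScalarTower A (integralClosure A L) B :=
      IsScalarTower.of_algebraMap_eq fun r => Subtype.ext ((σ.restrictScalars A).commutes r).symm
    exact (Algebra.IsIntegral.isIntegral (R := A) x).tower_top
  have hcm : ∀ (σ : L →ₐ[K] E) (P : Ideal B), P.IsMaximal → (P.comap (restr σ)).IsMaximal := fun σ P hP => by
    letI := (restr σ).toAlgebra
    haveI : Algebra.IsIntegral (integralClosure A L) B := ⟨hint σ⟩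
    exact Ideal.isMaximal_comap_of_isIntegral_of_isMaximal (R := integralClosure A L) P
  let T : (L →ₐ[K] E) → MaximalSpectrum (integralClosure A L) := fun σ => ⟨P₀.comap (restr σ), hcm σ P₀ hP₀⟩
  have hT : Function.Surjective T := fun M => by
    haveI := M.isMaximal
    letI := (restr ι').toAlgebra
    haveI : Algebra.IsIntegral (integralClosure A L) B := ⟨hint ι'⟩
    obtain ⟨P, -, hP, hPM⟩ := Ideal.exists_ideal_over_prime_of_isIntegral M.asIdeal (⊥ : Ideal B) (by
      rw [← RingHom.ker_eq_comap_bot, (RingHom.injective_iff_ker_eq_bot _).1 (show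
        Function.Injective (algebraMap (integralClosure A L) B) from
          fun x y e => Subtype.ext (ι'.injective (congrArg Subtype.val e)))]
      exact bot_le)
    haveI := hP
    have hPmax : P.IsMaximal :=
      Ideal.isMaximal_of_isIntegral_of_isMaximal_comap (R := integralClosure A L) P (hPM.symm ▸ M.isMaximal)
    haveI := hPmax
    haveI := hP₀
    obtain ⟨g, hg⟩ := Algebra.IsInvariant.exists_smul_of_under_eq A B Gal(E/K) P₀ P
      ((IsLocalRing.eq_maximalIdeal (Ideal.isMaximal_comap_of_isIntegral_of_isMaximal (R := A) P₀)).trans
        (IsLocalRing.eq_maximalIdeal (Ideal.isMaximal_comap_of_isIntegral_of_isMaximal (R := A) P)).symm)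
    refine ⟨((g⁻¹ : Gal(E/K)) : E →ₐ[K] E).comp ι', MaximalSpectrum.ext ?_⟩
    rw [← hPM, hg]
    ext x
    rw [Ideal.mem_comap, Ideal.mem_comap, Ideal.pointwise_smul_def]
    have e : restr (((g⁻¹ : Gal(E/K)) : E →ₐ[K] E).comp ι') x = g⁻¹ • algebraMap (integralClosure A L) B x := by
      refine Subtype.ext ?_
      exact (algebraMap_galRestrict_apply A (g⁻¹ : Gal(E/K)) (algebraMap (integralClosure A L) B x)).symm
    rw [e]
    exact Ideal.mem_inv_pointwise_smul_iff.symm.trans (by rw [inv_inv, Ideal.pointwise_smul_def])
  haveI : Finite (L →ₐ[K] E) := inferInstance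
  exact ⟨Finite.of_surjective T hT, (Nat.card_le_card_of_surjective T hT).trans (card_algHom_le_finrank K L E)⟩

/-- The maximal ideals of the integral closure are at most as many as the separable degree. -/
theorem natCard_le_finSepDegree [IsIntegrallyClosed A] [IsLocalRing A] [IsFractionRing A K]
    [Algebra.IsAlgebraic K L] (hn : Field.finSepDegree K L ≠ 0) :
    Finite (MaximalSpectrum (integralClosure A L)) ∧
      Nat.card (MaximalSpectrum (integralClosure A L)) ≤ Field.finSepDegree K L := by
  let S := separableClosure K L
  haveI : Algebra.IsSeparable K S := separableClosure.isSeparable K L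
  haveI : IsPurelyInseparable S L := separableClosure.isPurelyInseparable K L
  have hrk : Field.finSepDegree K L = Module.finrank K S := by
    rw [← Field.finSepDegree_mul_finSepDegree_of_isAlgebraic K S L, IsPurelyInseparable.finSepDegree_eq_one S L,
      _root_.mul_one, Field.finSepDegree_eq_finrank_of_isSeparable]
  haveI : FiniteDimensional K S := Module.finite_of_finrank_pos (by omega)
  haveI : IsScalarTower A S L := IsScalarTower.of_algebraMap_eq fun r => rfl
  obtain ⟨h1, h2⟩ := natCard_le_of_separable A K S
  obtain ⟨q, hq⟩ := ExpChar.exists K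
  haveI : ExpChar S q := expChar_of_injective_algebraMap (algebraMap K S).injective q
  have hinj := maxContract_injective A S L fun x _ => by
    obtain ⟨m, hm⟩ := IsPurelyInseparable.pow_mem S q x
    exact ⟨q ^ m, pow_pos (expChar_pos K q) m, hm⟩
  exact ⟨Finite.of_injective _ hinj, (Nat.card_le_card_of_injective _ hinj).trans (hrk ▸ h2)⟩

end Groth.Agent.SteinConn
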