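import Groth.Agent.SteinConn.Count
import Groth.Agent.SteinConn.MaxCount

/-!
# Fibres of proper dominant morphisms of integral schemes
-/

set_option autoImplicit false
set_option backward.isDefEq.respectTransparency false
set_option linter.style.haveILetI false
set_option linter.unusedSectionVars false

universe u

open CategoryTheory AlgebraicGeometry

noncomputable section

namespace Groth.Agent.SteinConn

variable {X Y : Scheme.{u}} [IsIntegral X] [IsIntegral Y] (f : X ⟶ Y)

theorem stalkToFunctionField_factor (hdom : f.base (genericPoint X) ⤳ genericPoint Y) (y : Y)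
    (h : f.base (genericPoint X) ⤳ y) :
    CohIII.stalkToFunctionField f y h =
      (CohIII.stalkToFunctionField f (genericPoint Y) hdom).comp (algebraMap (Y.presheaf.stalk y) Y.functionField) := by
  refine RingHom.ext fun r => congrArg (f.stalkMap (genericPoint X)).hom ?_
  exact (congrArg (fun t => t.hom r)
    (Y.presheaf.stalkSpecializes_comp hdom (genericPoint_specializes y))).symm

/-- Few maximal ideals when every integral element is radicial over the function field of the base. -/
theorem subsingleton_integralClosureStalk (hdom : f.base (genericPoint X) ⤳ genericPoint Y) (y : Y)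
    (h : f.base (genericPoint X) ⤳ y)
    (hA : Subsingleton (MaximalSpectrum (integralClosure (Y.presheaf.stalk y) Y.functionField)))
    (hrad : ∀ x : X.functionField,
      (∃ q : Polynomial Y.functionField, q ≠ 0 ∧
        Polynomial.eval₂ (CohIII.stalkToFunctionField f (genericPoint Y) hdom) x q = 0) →
      ∃ N : ℕ, 0 < N ∧ x ^ N ∈ Set.range (CohIII.stalkToFunctionField f (genericPoint Y) hdom)) :
    Subsingleton (MaximalSpectrum ↥(CohIII.integralClosureStalk f y h)) := by
  let K : Type u := Y.functionField
  letI : Algebra K X.functionField := (CohIII.stalkToFunctionField f (genericPoint Y) hdom).toAlgebra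
  letI : Algebra (Y.presheaf.stalk y) X.functionField := (CohIII.stalkToFunctionField f y h).toAlgebra
  haveI : IsScalarTower (Y.presheaf.stalk y) K X.functionField :=
    IsScalarTower.of_algebraMap_eq' (stalkToFunctionField_factor f hdom y h)
  haveI := hA
  refine subsingleton_of_radicial (Y.presheaf.stalk y) K X.functionField fun x hx => hrad x ?_
  have hx' : IsIntegral K x := hx.tower_top
  obtain ⟨q, hq, hqx⟩ := hx'
  exact ⟨q, hq.ne_zero, hqx⟩

end Groth.Agent.SteinConn

namespace Groth.Agent.SteinConn

variable (A : Type u) [CommRing A] [IsDomain A] [IsLocalRing A] (K L : Type u) [Field K] [Field L] [Algebra A K]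
  [IsFractionRing A K] [Algebra A L] [Algebra K L] [IsScalarTower A K L]

/-- The bound by the separable degree of the algebraic closure, over a unibranch local domain. -/
theorem natCard_le_of_unibranch (hA : CAlg2.IsUnibranch A)
    (hn : Field.finSepDegree K ↥(algebraicClosure K L) ≠ 0) :
    Finite (MaximalSpectrum (integralClosure A L)) ∧
      Nat.card (MaximalSpectrum (integralClosure A L)) ≤ Field.finSepDegree K ↥(algebraicClosure K L) := by
  haveI := subsingleton_of_unibranch A K hA
  let B := integralClosure A K
  haveI : IsLocalRing B := by
    obtain ⟨M, hM⟩ := Ideal.exists_maximal B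
    exact IsLocalRing.of_unique_max_ideal ⟨M, hM, fun N hN =>
      congrArg MaximalSpectrum.asIdeal (Subsingleton.elim (⟨N, hN⟩ : MaximalSpectrum B) ⟨M, hM⟩)⟩
  haveI : IsFractionRing B K := integralClosure.isFractionRing_of_finite_extension K K
  haveI : IsIntegrallyClosed B := integralClosure.isIntegrallyClosedOfFiniteExtension K
  let K' := algebraicClosure K L
  haveI : Algebra.IsAlgebraic K K' := algebraicClosure.isAlgebraic K L
  haveI : IsScalarTower B K K' := IsScalarTower.of_algebraMap_eq fun r => rfl
  haveI : IsScalarTower A K' L := IsScalarTower.of_algebraMap_eq fun r => rfl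
  haveI : IsScalarTower A K K' :=
    IsScalarTower.of_algebraMap_eq fun r => Subtype.ext (IsScalarTower.algebraMap_apply A K L r)
  haveI : IsScalarTower A B K' :=
    IsScalarTower.of_algebraMap_eq fun r => IsScalarTower.algebraMap_apply A K K' r
  obtain ⟨h1, h2⟩ := natCard_le_finSepDegree B K K' hn
  have he : (integralClosure A K').toSubring = (integralClosure B K').toSubring :=
    SetLike.ext fun x => ⟨fun hx => IsIntegral.tower_top hx, fun hx => isIntegral_trans (R := A) (A := B) x hx⟩
  let e : integralClosure A K' ≃+* integralClosure B K' := RingEquiv.subringCongr he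
  let T : MaximalSpectrum (integralClosure A K') → MaximalSpectrum (integralClosure B K') := fun M =>
    haveI := M.isMaximal
    ⟨M.asIdeal.comap (e.symm : _ →+* _), Ideal.comap_isMaximal_of_surjective _ e.symm.surjective⟩
  have hT : Function.Injective T := fun M M' h => MaximalSpectrum.ext
    (Ideal.comap_injective_of_surjective _ e.symm.surjective (congrArg MaximalSpectrum.asIdeal h))
  have hinj := hT.comp (maxContract_injective A K' L fun x hx =>
    ⟨1, one_pos, ⟨x, mem_algebraicClosure_iff.2 (IsIntegral.tower_top hx).isAlgebraic⟩, (pow_one x).symm⟩)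
  exact ⟨Finite.of_injective _ hinj, (Nat.card_le_card_of_injective _ hinj).trans h2⟩

end Groth.Agent.SteinConn
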