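import Groth.Agent.SteinConn.General
import Groth.Agent.NormalSch.Basic
import Groth.Prelude.Def_Pi1

/-!
# Functions of a proper scheme over a normal base with trivial generic global functions
-/

set_option autoImplicit false
set_option backward.isDefEq.respectTransparency false
set_option linter.style.haveILetI false
set_option linter.unusedSectionVars false

universe u

open CategoryTheory CategoryTheory.Limits AlgebraicGeometry TopologicalSpace

noncomputable section

namespace Groth.Agent.SteinConn

variable {X S : Scheme.{u}} (f : X ⟶ S) [IsProper f] [IsIntegral S] [IsReduced X]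

theorem fromSpecResidueField_appLE (V : S.Opens) (hVa : IsAffineOpen V) (hV : genericPoint S ∈ V)
    (e : (⊤ : (Spec (S.residueField (genericPoint S))).Opens) ≤ S.fromSpecResidueField (genericPoint S) ⁻¹ᵁ V) :
    (S.fromSpecResidueField (genericPoint S)).appLE V ⊤ e =
      S.presheaf.germ V (genericPoint S) hV ≫ S.residue (genericPoint S) ≫
        (Scheme.ΓSpecIso (S.residueField (genericPoint S))).inv := by
  have hr : S.fromSpecResidueField (genericPoint S) =
      Spec.map (S.presheaf.germ V (genericPoint S) hV ≫ S.residue (genericPoint S)) ≫ hVa.fromSpec := by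
    rw [Spec.map_comp, Category.assoc]
    show Spec.map (S.residue (genericPoint S)) ≫ S.fromSpecStalk (genericPoint S) = _
    rw [← IsAffineOpen.fromSpecStalk_eq_fromSpecStalk hVa hV]
    rfl
  have key : ∀ (g : Spec (S.residueField (genericPoint S)) ⟶ S) (e' : ⊤ ≤ g ⁻¹ᵁ V),
      g = Spec.map (S.presheaf.germ V (genericPoint S) hV ≫ S.residue (genericPoint S)) ≫ hVa.fromSpec →
      g.appLE V ⊤ e' = (S.presheaf.germ V (genericPoint S) hV ≫ S.residue (genericPoint S)) ≫
        (Scheme.ΓSpecIso (S.residueField (genericPoint S))).inv := by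
    rintro g e' rfl
    rw [Scheme.Hom.comp_appLE, IsAffineOpen.fromSpec_app_self, Category.assoc, Scheme.Hom.map_appLE,
      Scheme.ΓSpecIso_inv_naturality]
    congr 1
  rw [key _ e hr, Category.assoc]

theorem bijective_app_of_trivial_generic (hS : Pi1.IsNormalScheme S)
    (hgen : ∀ Z ∈ irreducibleComponents ↑X, ∀ x : X, IsGenericPoint x Z → f x = genericPoint ↑S)
    (h0 : Function.Bijective ((f.fiberToSpecResidueField (genericPoint ↑S)).appTop))
    (V : S.Opens) (hV : IsAffineOpen V) : Function.Bijective (f.app V).hom := by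
  rcases isEmpty_or_nonempty V with hVe | hVne
  · have hb : V = ⊥ := Opens.ext (Set.eq_empty_of_forall_notMem fun x hx => hVe.false ⟨x, hx⟩)
    subst hb
    haveI : Subsingleton Γ(X, f ⁻¹ᵁ ⊥) := by rw [show f ⁻¹ᵁ (⊥ : S.Opens) = ⊥ from rfl]; infer_instance
    haveI : Subsingleton Γ(S, (⊥ : S.Opens)) := inferInstance
    exact ⟨fun a b _ => Subsingleton.elim a b, fun b => ⟨0, Subsingleton.elim _ b⟩⟩
  let η := genericPoint S
  have hη : η ∈ V := (genericPoint_spec S).mem_open_set_iff V.2 |>.2 (by
    obtain ⟨x, hx⟩ := hVne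
    exact ⟨x, trivial, hx⟩)
  let q := f.fiberι η
  let t := f.fiberToSpecResidueField η
  have hsq : q ≫ f = t ≫ S.fromSpecResidueField η := pullback.condition
  have hq : ∀ z, f (q z) = η := fun z => (Set.ext_iff.1 (f.range_fiberι η) _).1 ⟨z, rfl⟩
  have eq1 : (⊤ : (f.fiber η).Opens) ≤ q ⁻¹ᵁ (f ⁻¹ᵁ V) := fun z _ => by
    show f (q z) ∈ V
    rw [hq]; exact hη
  have eq2 : (⊤ : (Spec (S.residueField η)).Opens) ≤ S.fromSpecResidueField η ⁻¹ᵁ V := fun z _ => by
    show S.fromSpecResidueField η z ∈ V
    rw [Scheme.fromSpecResidueField_apply]; exact hη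
  let ψ := (q.appLE (f ⁻¹ᵁ V) ⊤ eq1).hom
  let A := Γ(S, V)
  let K := Γ(Spec (S.residueField η), ⊤)
  let χ : A →+* K := ((S.fromSpecResidueField η).appLE V ⊤ eq2).hom
  have hψ : ∀ a, ψ ((f.app V).hom a) = t.appTop.hom (χ a) := by
    intro a
    have key : ∀ (g : f.fiber η ⟶ S) (e : (⊤ : (f.fiber η).Opens) ≤ g ⁻¹ᵁ V), g = t ≫ S.fromSpecResidueField η →
        (g.appLE V ⊤ e).hom a = t.appTop.hom (χ a) := by
      rintro g e rfl
      rw [← Scheme.Hom.appLE_comp_appLE _ _ V ⊤ ⊤ eq2 le_top, CommRingCat.comp_apply]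
      show ((t.appLE ⊤ ⊤ _).hom) (χ a) = _
      rw [Scheme.Hom.appTop, Scheme.Hom.app_eq_appLE]
      rfl
    rw [← key (q ≫ f) eq1 hsq, Scheme.Hom.comp_appLE]
    rfl
  -- the fraction field
  let F := S.functionField
  haveI : IsFractionRing A F := functionField_isFractionRing_of_isAffineOpen S V hV
  have hρ : Function.Bijective (S.residue η).hom :=
    ⟨((S.residue η).hom.comp (RingHom.id F)).injective, Ideal.Quotient.mk_surjective⟩
  let eK : F ≃+* K := (RingEquiv.ofBijective _ hρ).trans (Scheme.ΓSpecIso (S.residueField η)).commRingCatIsoToRingEquiv.symm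
  letI : Algebra A K := χ.toAlgebra
  have hχ : ∀ a, χ a = eK (algebraMap A F a) := fun a => by
    show ((S.fromSpecResidueField η).appLE V ⊤ eq2).hom a = _
    rw [fromSpecResidueField_appLE V hV hη eq2]
    rfl
  haveI : IsFractionRing A K := IsLocalization.isLocalization_of_algEquiv _
    (AlgEquiv.ofRingEquiv (f := eK) fun a => (hχ a).symm : F ≃ₐ[A] K)
  haveI : IsIntegrallyClosed A := NormalSch.isIntegrallyClosed_section hS V
  haveI : Nonempty ↥(f.fiber η) := by
    by_contra h
    rw [not_nonempty_iff] at h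
    haveI : Subsingleton Γ(f.fiber η, ⊤) := inferInstance
    haveI : Subsingleton K := h0.1.subsingleton
    exact not_subsingleton F eK.injective.subsingleton
  refine ⟨(injective_iff_map_eq_zero _).2 fun a ha => ?_, fun s => ?_⟩
  · have h1 := hψ a
    rw [ha, map_zero] at h1
    have h2 : χ a = 0 := h0.1 (by rw [← h1, map_zero])
    exact IsFractionRing.injective A K (h2.trans (map_zero _).symm)
  · obtain ⟨c, hc⟩ := h0.2 (ψ s)
    have hs : (f.app V).hom.IsIntegralElem s := by
      have hint := f.fromNormalization.isIntegral_app V hV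
      haveI := NormalizationLemmas.isIso_toNormalization_app f (f.fromNormalization ⁻¹ᵁ V)
      obtain ⟨b, hb⟩ := (ConcreteCategory.bijective_of_isIso
        (f.toNormalization.app (f.fromNormalization ⁻¹ᵁ V) ≫
          X.presheaf.map (eqToHom (show f ⁻¹ᵁ V = f.toNormalization ⁻¹ᵁ (f.fromNormalization ⁻¹ᵁ V) by
            rw [← Scheme.Hom.comp_preimage, f.toNormalization_fromNormalization])).op)).2 s
      subst hb
      obtain ⟨p, hp, hp0⟩ := hint b
      refine ⟨p, hp, ?_⟩
      have hcomp : f.app V = f.fromNormalization.app V ≫ f.toNormalization.app (f.fromNormalization ⁻¹ᵁ V) ≫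
          X.presheaf.map (eqToHom (show f ⁻¹ᵁ V = f.toNormalization ⁻¹ᵁ (f.fromNormalization ⁻¹ᵁ V) by
            rw [← Scheme.Hom.comp_preimage, f.toNormalization_fromNormalization])).op := by
        have := Scheme.Hom.congr_app f.toNormalization_fromNormalization.symm V
        rw [this, Scheme.Hom.comp_app, Category.assoc]
      rw [hcomp, CommRingCat.hom_comp, ← Polynomial.hom_eval₂, hp0, map_zero]
    have hci : IsIntegral A c := by
      obtain ⟨p, hp, hp0⟩ := hs
      refine ⟨p, hp, h0.1 ?_⟩
      show t.appTop.hom (Polynomial.eval₂ χ c p) = t.appTop.hom 0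
      rw [map_zero, Polynomial.hom_eval₂, hc, show t.appTop.hom.comp χ = ψ.comp (f.app V).hom from
        RingHom.ext fun a => (hψ a).symm, ← Polynomial.hom_eval₂, hp0, map_zero]
    obtain ⟨a, ha⟩ := IsIntegrallyClosed.isIntegral_iff.1 hci
    refine ⟨a, sub_eq_zero.1 ?_⟩
    let d := (f.app V).hom a - s
    have hd : ψ d = 0 := by
      rw [map_sub, hψ, show χ a = c from ha, hc, sub_self]
    show d = 0
    rw [← basicOpen_eq_bot_iff]
    refine Opens.ext (Set.eq_empty_of_forall_notMem fun x hx => ?_)
    have hZ := irreducibleComponent_mem_irreducibleComponents x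
    obtain ⟨w, hw⟩ := QuasiSober.sober hZ.1 (isClosed_irreducibleComponent (x := x))
    have hwx : w ⤳ x := specializes_iff_mem_closure.2 (hw.symm ▸ mem_irreducibleComponent)
    have hwd : w ∈ X.basicOpen d := hwx.mem_open (X.basicOpen d).2 hx
    obtain ⟨z, hz⟩ : w ∈ Set.range q := (Set.ext_iff.1 (f.range_fiberι η) w).2 (hgen _ hZ w hw)
    have hz' : z ∈ q ⁻¹ᵁ X.basicOpen d ⊓ ⊤ := ⟨show q z ∈ X.basicOpen d from hz.symm ▸ hwd, trivial⟩
    have h2 : (f.fiber η).basicOpen (ψ d) = q ⁻¹ᵁ X.basicOpen d ⊓ ⊤ := by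
      rw [Scheme.basicOpen_appLE]
      exact inf_comm _ _
    rw [← h2, hd, Scheme.basicOpen_zero] at hz'
    exact hz'.elim

theorem isIso_app_of_trivial_generic (hS : Pi1.IsNormalScheme S)
    (hgen : ∀ Z ∈ irreducibleComponents ↑X, ∀ x : X, IsGenericPoint x Z → f x = genericPoint ↑S)
    (h0 : Function.Bijective ((f.fiberToSpecResidueField (genericPoint ↑S)).appTop))
    (U : S.Opens) : IsIso (f.app U) := by
  haveI : IsIso f.fromNormalization := by
    refine IsZariskiLocalAtTarget.of_forall_exists_morphismRestrict (P := .isomorphisms Scheme) fun s => ?_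
    obtain ⟨_, ⟨V : S.Opens, hV, rfl⟩, hs, -⟩ :=
      S.isBasis_affineOpens.exists_subset_of_mem_open (Set.mem_univ s) isOpen_univ
    refine ⟨V, hs, (isIso_morphismRestrict_iff_isIso_app _ hV).2 ?_⟩
    haveI : IsIso (f.app V) := (ConcreteCategory.isIso_iff_bijective _).2
      (bijective_app_of_trivial_generic f hS hgen h0 V hV)
    haveI := NormalizationLemmas.isIso_toNormalization_app f (f.fromNormalization ⁻¹ᵁ V)
    have := Scheme.Hom.congr_app f.toNormalization_fromNormalization V
    rw [Scheme.Hom.comp_app] at this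
    haveI : IsIso (f.fromNormalization.app V ≫ f.toNormalization.app (f.fromNormalization ⁻¹ᵁ V)) := by
      rw [this]; infer_instance
    exact IsIso.of_isIso_comp_right _ (f.toNormalization.app (f.fromNormalization ⁻¹ᵁ V))
  haveI : ∀ W, IsIso (f.toNormalization.app W) := fun W => NormalizationLemmas.isIso_toNormalization_app f W
  have := Scheme.Hom.congr_app f.toNormalization_fromNormalization.symm U
  rw [this, Scheme.Hom.comp_app]
  infer_instance

end Groth.Agent.SteinConn
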