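import Groth.Agent.SteinConn.UnivHomeo
import Groth.Agent.Unibranch.Radicial
import Groth.Agent.GeomUniPoly.Criterion
import Groth.Agent.GeomUniPoly.Scheme

/-!
# Connected fibres over a geometrically unibranch base
-/

set_option autoImplicit false
set_option backward.isDefEq.respectTransparency false
set_option linter.style.haveILetI false
set_option linter.unusedSectionVars false

universe u

open CategoryTheory CategoryTheory.Limits AlgebraicGeometry TopologicalSpace
open Groth.Agent.Unibranch (toNormRed)

noncomputable section

namespace Groth.Agent.SteinConn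

/-- Geometric unibranchness is invariant under isomorphisms. -/
theorem isGeomUnibranch_of_ringEquiv {R R' : Type u} [CommRing R] [IsLocalRing R] [CommRing R'] [IsLocalRing R']
    (e : R ≃+* R') (h : CAlg2.IsGeomUnibranch R) : CAlg2.IsGeomUnibranch R' := by
  haveI hdom : IsDomain (CAlg2.red R) := h.1.1
  let er : CAlg2.red R ≃+* CAlg2.red R' := Ideal.quotientEquiv (nilradical R) (nilradical R') e (by
    ext x
    rw [mem_nilradical, show Ideal.map (e : R →+* R') (nilradical R) = (nilradical R).comap (e.symm : R' →+* R) from
      Ideal.map_comap_of_equiv e, Ideal.mem_comap, mem_nilradical]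
    exact (IsNilpotent.map_iff e.symm.injective).symm)
  haveI hdom' : IsDomain (CAlg2.red R') := er.toMulEquiv.isDomain_iff.1 hdom
  let F := FractionRing (CAlg2.red R)
  let F' := FractionRing (CAlg2.red R')
  let eF : F ≃+* F' := IsFractionRing.ringEquivOfRingEquiv er
  have hcomm : ∀ a, eF (algebraMap _ F a) = algebraMap _ F' (er a) := fun a =>
    IsFractionRing.ringEquivOfRingEquiv_algebraMap er a
  have hint : ∀ x : CAlg2.normRed R, eF x.1 ∈ integralClosure (CAlg2.red R') F' := fun x => by
    obtain ⟨p, hp, hp0⟩ := x.2
    refine ⟨p.map er.toRingHom, hp.map _, ?_⟩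
    rw [Polynomial.eval₂_map]
    have hc : (algebraMap (CAlg2.red R') F').comp er.toRingHom = eF.toRingHom.comp (algebraMap (CAlg2.red R) F) :=
      RingHom.ext fun a => (hcomm a).symm
    rw [hc]
    show Polynomial.eval₂ (eF.toRingHom.comp _) (eF.toRingHom x.1) p = 0
    rw [← Polynomial.hom_eval₂, hp0, map_zero]
  let θ : CAlg2.normRed R →+* CAlg2.normRed R' :=
    (eF.toRingHom.comp (integralClosure (CAlg2.red R) F).val.toRingHom).codRestrict
      (integralClosure (CAlg2.red R') F').toSubring hint
  have hθ : Function.Surjective θ := fun y => by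
    have hy : eF.symm y.1 ∈ integralClosure (CAlg2.red R) F := by
      obtain ⟨p, hp, hp0⟩ := y.2
      refine ⟨p.map er.symm.toRingHom, hp.map _, ?_⟩
      rw [Polynomial.eval₂_map]
      have hc : (algebraMap (CAlg2.red R) F).comp er.symm.toRingHom =
          eF.symm.toRingHom.comp (algebraMap (CAlg2.red R') F') := by
        refine RingHom.ext fun a => eF.injective ?_
        show eF (algebraMap _ F (er.symm a)) = eF (eF.symm (algebraMap _ F' a))
        rw [hcomm, RingEquiv.apply_symm_apply, RingEquiv.apply_symm_apply]
      rw [hc]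
      show Polynomial.eval₂ (eF.symm.toRingHom.comp _) (eF.symm.toRingHom y.1) p = 0
      rw [← Polynomial.hom_eval₂, hp0, map_zero]
    exact ⟨⟨_, hy⟩, Subtype.ext (eF.apply_symm_apply y.1)⟩
  have hθr : ∀ r, θ (toNormRed R r) = toNormRed R' (e r) := fun r => Subtype.ext (hcomm _)
  refine GeomUniPoly.isGeomUnibranch_of_closed R' hdom' fun K _ f g hfg hm => ?_
  have := GeomUniPoly.ringHom_ext_of_isGeomUnibranch R h K (f.comp θ) (g.comp θ)
    (RingHom.ext fun r => by
      show f (θ (toNormRed R r)) = g (θ (toNormRed R r))
      rw [hθr]; exact RingHom.congr_fun hfg (e r))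
    (fun r hr => by
      show f (θ (toNormRed R r)) = 0
      rw [hθr]
      refine hm _ ?_
      rw [IsLocalRing.mem_maximalIdeal, mem_nonunits_iff] at hr ⊢
      exact fun hu => hr (by simpa using hu.map e.symm))
  exact RingHom.ext fun y => by
    obtain ⟨x, rfl⟩ := hθ y
    exact RingHom.congr_fun this x

/-- Maps to algebraically closed fields extend along integral extensions. -/
theorem exists_extend {R R' M : Type u} [CommRing R] [CommRing R'] [Field M] [IsAlgClosed M] [Algebra R R']
    [Algebra.IsIntegral R R'] (hinj : Function.Injective (algebraMap R R')) (f : R →+* M) :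
    ∃ f' : R' →+* M, f'.comp (algebraMap R R') = f := by
  let q := RingHom.ker f
  haveI : q.IsPrime := RingHom.ker_isPrime f
  obtain ⟨Q, -, hQ, hQq⟩ := Ideal.exists_ideal_over_prime_of_isIntegral q (⊥ : Ideal R') (by
    rw [← RingHom.ker_eq_comap_bot, (RingHom.injective_iff_ker_eq_bot _).1 hinj]; exact bot_le)
  haveI := hQ
  haveI : Q.LiesOver q := ⟨hQq.symm⟩
  letI := Localization.AtPrime.algebraOfLiesOver q Q
  haveI : Algebra.IsIntegral q.ResidueField Q.ResidueField := inferInstance
  letI : Algebra q.ResidueField M :=
    (Ideal.ResidueField.lift q f le_rfl (fun r hr => isUnit_iff_ne_zero.2 fun h => hr h)).toAlgebra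
  let φ : Q.ResidueField →ₐ[q.ResidueField] M := IsAlgClosed.lift
  refine ⟨φ.toRingHom.comp (algebraMap R' Q.ResidueField), RingHom.ext fun r => ?_⟩
  show φ (algebraMap R' Q.ResidueField (algebraMap R R' r)) = f r
  rw [← IsScalarTower.algebraMap_apply, IsScalarTower.algebraMap_apply R q.ResidueField Q.ResidueField, φ.commutes]
  exact Ideal.ResidueField.lift_algebraMap q f le_rfl _ r

/-- An integral extension of a geometrically unibranch domain with radicial generic fibre is radicial. -/
theorem fieldEpi_of_generic {A A' : Type u} [CommRing A] [IsDomain A] [CommRing A'] [IsDomain A'] [Algebra A A']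
    [Algebra.IsIntegral A A'] (hinj : Function.Injective (algebraMap A A'))
    (hA : ∀ (p : Ideal A) [p.IsPrime], CAlg2.IsGeomUnibranch (Localization.AtPrime p))
    (hgen : ∀ (L : Type u) [Field L] (f g : A' →+* L), Function.Injective f → Function.Injective g →
      f.comp (algebraMap A A') = g.comp (algebraMap A A') → f = g) :
    RadicialLib.FieldEpi A A' := by
  let F := FractionRing A
  let E := FractionRing A'
  haveI : FaithfulSMul A E := (faithfulSMul_iff_algebraMap_injective A E).2 (by
    rw [IsScalarTower.algebraMap_eq A A' E]; exact (IsFractionRing.injective A' E).comp hinj)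
  letI : Algebra F E := FractionRing.liftAlgebra A E
  haveI : Algebra.IsAlgebraic F E := Algebra.isAlgebraic_iff_isIntegral.2 ⟨fun x => by
    obtain ⟨a, b, -, rfl⟩ := IsFractionRing.div_surjective A' x
    rw [div_eq_mul_inv]
    exact ((Algebra.IsIntegral.isIntegral (R := A) a).algebraMap.tower_top).mul
      ((Algebra.IsIntegral.isIntegral (R := A) b).algebraMap.tower_top).inv⟩
  haveI : IsPurelyInseparable F E := by
    rw [isPurelyInseparable_iff_subsingleton_emb]
    refine ⟨fun σ τ => AlgHom.coe_ringHom_injective (IsLocalization.ringHom_ext (nonZeroDivisors A') ?_)⟩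
    refine hgen _ _ _ (σ.toRingHom.injective.comp (IsFractionRing.injective A' E))
      (τ.toRingHom.injective.comp (IsFractionRing.injective A' E)) (RingHom.ext fun a => ?_)
    show σ (algebraMap A' E (algebraMap A A' a)) = τ (algebraMap A' E (algebraMap A A' a))
    rw [← IsScalarTower.algebraMap_apply, IsScalarTower.algebraMap_apply A F E, σ.commutes, τ.commutes]
  intro L _ f g hfg
  let M := AlgebraicClosure L
  let ι := algebraMap L M
  let D := integralClosure A E
  letI : Algebra A' D := ((algebraMap A' E).codRestrict D.toSubring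
    fun a => (Algebra.IsIntegral.isIntegral (R := A) a).algebraMap).toAlgebra
  haveI : IsScalarTower A A' D := IsScalarTower.of_algebraMap_eq fun a =>
    Subtype.ext (IsScalarTower.algebraMap_apply A A' E a)
  haveI : Algebra.IsIntegral A' D := ⟨fun x => (Algebra.IsIntegral.isIntegral (R := A) x).tower_top⟩
  have hD : Function.Injective (algebraMap A' D) := fun a b hab =>
    IsFractionRing.injective A' E (congrArg Subtype.val hab)
  obtain ⟨f', hf'⟩ := exists_extend hD (ι.comp f)
  obtain ⟨g', hg'⟩ := exists_extend hD (ι.comp g)
  let ψ : integralClosure A F →+* D :=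
    ((algebraMap F E).comp (integralClosure A F).val.toRingHom).codRestrict D.toSubring
      fun x => IsIntegral.map (IsScalarTower.toAlgHom A F E) x.2
  have hψ : f'.comp ψ = g'.comp ψ := by
    refine Unibranch.fieldEpi_of_isGeomUnibranch hA M _ _ (RingHom.ext fun a => ?_)
    have he : ψ (algebraMap A (integralClosure A F) a) = algebraMap A' D (algebraMap A A' a) := by
      refine Subtype.ext ?_
      show algebraMap F E (algebraMap A F a) = algebraMap A' E (algebraMap A A' a)
      rw [← IsScalarTower.algebraMap_apply, ← IsScalarTower.algebraMap_apply]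
    show f' (ψ _) = g' (ψ _)
    rw [he]
    exact (RingHom.congr_fun hf' _).trans ((congrArg ι (RingHom.congr_fun hfg a)).trans (RingHom.congr_fun hg' _).symm)
  refine RingHom.ext fun a => ι.injective ?_
  let q := ringExpChar F
  obtain ⟨n, c, hc⟩ := IsPurelyInseparable.pow_mem F q (algebraMap A' E a)
  have hci : IsIntegral A c := (isIntegral_algHom_iff (IsScalarTower.toAlgHom A F E) (algebraMap F E).injective).1 (by
    show IsIntegral A (algebraMap F E c)
    rw [hc]; exact (Algebra.IsIntegral.isIntegral (R := A) a).algebraMap.pow _)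
  have hval : ψ ⟨c, hci⟩ = algebraMap A' D a ^ q ^ n := Subtype.ext hc
  have key : ι (f a) ^ q ^ n = ι (g a) ^ q ^ n := by
    have h1 := RingHom.congr_fun hψ ⟨c, hci⟩
    simp only [RingHom.comp_apply, hval, map_pow] at h1
    rwa [show f' (algebraMap A' D a) = ι (f a) from RingHom.congr_fun hf' a,
      show g' (algebraMap A' D a) = ι (g a) from RingHom.congr_fun hg' a] at h1
  haveI hq : ExpChar F q := inferInstance
  clear_value q
  rcases expChar_is_prime_or_one F q with hp | h1
  · haveI : Fact q.Prime := ⟨hp⟩
    haveI : CharP F q := by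
      cases hq with
      | zero => exact absurd hp Nat.not_prime_one
      | prime => assumption
    haveI : CharP A q := (IsFractionRing.injective A F |> fun h => (RingHom.charP_iff (algebraMap A F) h q).2 ‹CharP F q›)
    haveI : CharP M q := (CharP.charP_iff_prime_eq_zero hp).2 (by
      rw [← map_natCast (ι.comp (f.comp (algebraMap A A'))) q, CharP.cast_eq_zero, map_zero])
    haveI : ExpChar M q := ExpChar.prime hp
    exact iterateFrobenius_inj M q n (by simpa only [iterateFrobenius_def] using key)
  · rw [h1, one_pow, pow_one, pow_one] at key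
    exact key

variable {X S : Scheme.{u}} (f : X ⟶ S) [IsProper f] [IsIntegral X] [IsIntegral S]

theorem universallyInjective_fiber_fromNormalization (η : S) [GeometricallyConnected (f.fiberToSpecResidueField η)] :
    UniversallyInjective (f.fromNormalization.fiberToSpecResidueField η) := by
  haveI := surjective_of_bijApp f.toNormalization (bijApp_toNormalization f)
  let ι' := f.fromNormalization.fiberι η
  let u := pullback.snd f.toNormalization ι'
  haveI : Surjective u := MorphismProperty.pullback_snd _ _ ‹Surjective f.toNormalization›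
  have hpb : IsPullback (pullback.fst f.toNormalization ι') (u ≫ f.fromNormalization.fiberToSpecResidueField η)
      f (S.fromSpecResidueField η) := by
    have := (IsPullback.of_hasPullback f.toNormalization ι').paste_vert
      (IsPullback.of_hasPullback f.fromNormalization (S.fromSpecResidueField η))
    rwa [f.toNormalization_fromNormalization] at this
  haveI : GeometricallyConnected (u ≫ f.fromNormalization.fiberToSpecResidueField η) := by
    rw [← hpb.isoPullback_hom_snd]
    exact (MorphismProperty.cancel_left_of_respectsIso @GeometricallyConnected _ _).2 ‹_›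
  haveI : IsIntegralHom (f.fromNormalization.fiberToSpecResidueField η) :=
    MorphismProperty.pullback_snd _ _ inferInstance
  exact universallyInjective_of_comp u _

theorem universallyInjective_fromNormalization [Surjective f]
    (hS : ∀ s : S, CAlg2.IsGeomUnibranch (S.presheaf.stalk s))
    [GeometricallyConnected (f.fiberToSpecResidueField (genericPoint S))] :
    UniversallyInjective f.fromNormalization := by
  haveI : Surjective (f.toNormalization ≫ f.fromNormalization) := by
    rw [f.toNormalization_fromNormalization]; infer_instance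
  haveI : Surjective f.fromNormalization := Surjective.of_comp f.toNormalization _
  refine ((tfae_universallyInjective f.fromNormalization).out 1 0).1 ?_
  intro K _ g₁ g₂ hg
  let ν := f.fromNormalization
  obtain ⟨_, ⟨V : S.Opens, hV, rfl⟩, hx, -⟩ :=
    S.isBasis_affineOpens.exists_subset_of_mem_open (Set.mem_univ (ν (g₁ (IsLocalRing.closedPoint K)))) isOpen_univ
  let W := ν ⁻¹ᵁ V
  have hW : IsAffineOpen W := hV.preimage ν
  haveI : Nonempty V := ⟨⟨_, hx⟩⟩
  haveI : Nonempty W := ⟨⟨g₁ (IsLocalRing.closedPoint K), hx⟩⟩
  letI : Algebra Γ(S, V) Γ(f.normalization, W) := (ν.app V).hom.toAlgebra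
  haveI : Algebra.IsIntegral Γ(S, V) Γ(f.normalization, W) := ⟨ν.isIntegral_app V hV⟩
  have hinj : Function.Injective (algebraMap Γ(S, V) Γ(f.normalization, W)) := by
    rw [injective_iff_map_eq_zero]
    intro a ha
    rw [← basicOpen_eq_bot_iff]
    refine eq_bot_iff.2 fun z hz => ?_
    obtain ⟨w, rfl⟩ := ν.surjective z
    have : w ∈ ν ⁻¹ᵁ S.basicOpen a := hz
    rw [Scheme.preimage_basicOpen, show (ν.app V).hom a = 0 from ha, Scheme.basicOpen_zero] at this
    exact this.elim
  have hsq : ∀ {L : Type u} [Field L] (a : Γ(f.normalization, W) →+* L),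
      (Spec.map (CommRingCat.ofHom a) ≫ hW.fromSpec) ≫ ν =
        Spec.map (CommRingCat.ofHom (a.comp (algebraMap Γ(S, V) Γ(f.normalization, W)))) ≫ hV.fromSpec := by
    intro L _ a
    rw [CommRingCat.ofHom_comp, Spec.map_comp, Category.assoc, Category.assoc]
    congr 1
    have e := IsAffineOpen.SpecMap_appLE_fromSpec ν hV hW le_rfl
    rw [Scheme.Hom.appLE_eq_app] at e
    exact e.symm
  have hfib := universallyInjective_fiber_fromNormalization f (genericPoint S)
  have hepi : RadicialLib.FieldEpi Γ(S, V) Γ(f.normalization, W) := by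
    refine fieldEpi_of_generic hinj (fun p _ => ?_) fun L _ a b hai hbi hab => ?_
    · obtain ⟨alg, hloc⟩ := GeomUniPoly.exists_algebra_stalk hV.fromSpec (⟨p, inferInstance⟩ : PrimeSpectrum Γ(S, V))
      letI := alg
      haveI := hloc
      exact isGeomUnibranch_of_ringEquiv
        (IsLocalization.algEquiv p.primeCompl (S.presheaf.stalk (hV.fromSpec (⟨p, inferInstance⟩ : PrimeSpectrum Γ(S, V))))
          (Localization.AtPrime p)).toRingEquiv (hS _)
    · let ga := Spec.map (CommRingCat.ofHom a) ≫ hW.fromSpec
      let gb := Spec.map (CommRingCat.ofHom b) ≫ hW.fromSpec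
      have hgab : ga ≫ ν = gb ≫ ν := by rw [hsq, hsq, hab]
      haveI : IsDomain Γ(S, V) := inferInstance
      have hpt : (ga ≫ ν) (IsLocalRing.closedPoint L) = genericPoint S := by
        rw [hsq, Scheme.Hom.comp_apply]
        have h0 : Spec.map (CommRingCat.ofHom (a.comp (algebraMap Γ(S, V) Γ(f.normalization, W)))) (IsLocalRing.closedPoint L) =
            (⟨⊥, Ideal.isPrime_bot⟩ : PrimeSpectrum Γ(S, V)) := by
          refine PrimeSpectrum.ext ?_
          show (IsLocalRing.maximalIdeal L).comap _ = ⊥
          rw [IsLocalRing.maximalIdeal_eq_bot, ← RingHom.ker_eq_comap_bot, ← RingHom.injective_iff_ker_eq_bot]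
          exact hai.comp hinj
        rw [h0]
        haveI : Nonempty ↥(Spec Γ(S, V)) := ⟨⟨⊥, Ideal.isPrime_bot⟩⟩
        rw [← genericPoint_eq_of_isOpenImmersion hV.fromSpec, genericPoint_eq_bot_of_affine Γ(S, V)]
        rfl
      obtain ⟨r, hr⟩ : ∃ r : Spec (CommRingCat.of L) ⟶ Spec (S.residueField (genericPoint S)),
          r ≫ S.fromSpecResidueField _ = ga ≫ ν :=
        hpt ▸ ⟨Spec.map (S.descResidueField (Scheme.stalkClosedPointTo (ga ≫ ν))),
          S.descResidueField_stalkClosedPointTo_fromSpecResidueField _ _⟩
      let la : Spec (CommRingCat.of L) ⟶ ν.fiber (genericPoint S) := pullback.lift ga r hr.symm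
      let lb : Spec (CommRingCat.of L) ⟶ ν.fiber (genericPoint S) := pullback.lift gb r (hgab.symm.trans hr.symm)
      have hinjL : ∀ (K' : Type u) [Field K'], Function.Injective
          (fun g : Spec (CommRingCat.of K') ⟶ ν.fiber (genericPoint S) => g ≫ ν.fiberToSpecResidueField (genericPoint S)) :=
        ((tfae_universallyInjective (ν.fiberToSpecResidueField (genericPoint S))).out 0 1).1 hfib
      have hl : la = lb :=
        hinjL L
          (show la ≫ _ = lb ≫ _ by
            show la ≫ pullback.snd _ _ = lb ≫ pullback.snd _ _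
            rw [pullback.lift_snd, pullback.lift_snd])
      have h2 : ga = gb := by
        have := congrArg (· ≫ pullback.fst _ _) hl
        simpa [la, lb] using this
      rw [cancel_mono] at h2
      exact congrArg CommRingCat.Hom.hom (Spec.map_injective h2)
  have hmem : ∀ g : Spec (CommRingCat.of K) ⟶ f.normalization, g ≫ ν = g₁ ≫ ν →
      Set.range g ⊆ Set.range hW.fromSpec := fun g hgν => by
    rintro _ ⟨z, rfl⟩
    rw [hW.range_fromSpec]
    show ν (g z) ∈ V
    rw [← Scheme.Hom.comp_apply, hgν, Subsingleton.elim z (IsLocalRing.closedPoint K)]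
    exact hx
  obtain ⟨a₁, ha₁⟩ := Spec.map_surjective (IsOpenImmersion.lift hW.fromSpec g₁ (hmem g₁ rfl))
  obtain ⟨a₂, ha₂⟩ := Spec.map_surjective (IsOpenImmersion.lift hW.fromSpec g₂ (hmem g₂ hg.symm))
  have e₁ : Spec.map a₁ ≫ hW.fromSpec = g₁ := by rw [ha₁, IsOpenImmersion.lift_fac]
  have e₂ : Spec.map a₂ ≫ hW.fromSpec = g₂ := by rw [ha₂, IsOpenImmersion.lift_fac]
  have hA : a₁.hom.comp (algebraMap Γ(S, V) Γ(f.normalization, W)) =
      a₂.hom.comp (algebraMap Γ(S, V) Γ(f.normalization, W)) := by
    have h1 := hsq (L := K) a₁.hom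
    have h2 := hsq (L := K) a₂.hom
    rw [show CommRingCat.ofHom a₁.hom = a₁ from rfl, e₁] at h1
    rw [show CommRingCat.ofHom a₂.hom = a₂ from rfl, e₂] at h2
    have h3 : g₁ ≫ ν = g₂ ≫ ν := hg
    rw [h1, h2, cancel_mono] at h3
    exact congrArg CommRingCat.Hom.hom (Spec.map_injective h3)
  rw [← e₁, ← e₂, CommRingCat.hom_ext (hepi K a₁.hom a₂.hom hA)]

/-- Fibres are geometrically connected over a geometrically unibranch base with connected generic fibre. -/
theorem geometricallyConnected_of_geomUnibranch [IsDominant f]
    (hS : ∀ s : S, CAlg2.IsGeomUnibranch (S.presheaf.stalk s))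
    (hη : GeometricallyConnected (f.fiberToSpecResidueField (genericPoint S))) : GeometricallyConnected f := by
  haveI := hη
  haveI : Surjective f := ⟨fun s => by
    have h := f.denseRange.closure_range
    rw [f.isClosedMap.isClosed_range.closure_eq] at h
    exact Set.range_eq_univ.1 h s⟩
  haveI := universallyInjective_fromNormalization f hS
  haveI : Surjective (f.toNormalization ≫ f.fromNormalization) := by
    rw [f.toNormalization_fromNormalization]; infer_instance
  haveI : Surjective f.fromNormalization := Surjective.of_comp f.toNormalization _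
  haveI := geometricallyConnected_toNormalization' f
  have := geometricallyConnected_comp f.toNormalization f.fromNormalization
  rwa [f.toNormalization_fromNormalization] at this

end Groth.Agent.SteinConn
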