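import Groth.Agent.SteinConn.Stein
import Groth.Agent.NApproxLib.ProperModel

/-!
# Stein factorisation and connectedness over an arbitrary base

Noetherian approximation of proper morphisms reduces Zariski's connectedness theorem to the locally
Noetherian case.
-/

set_option autoImplicit false
set_option backward.isDefEq.respectTransparency false
set_option linter.style.haveILetI false
set_option linter.unusedSectionVars false

universe u

open CategoryTheory CategoryTheory.Limits AlgebraicGeometry TopologicalSpace Opposite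

noncomputable section

namespace Groth.Agent.SteinConn

variable {X S : Scheme.{u}} (f : X ⟶ S)

/-- If functions on the source come from the affine base, the normalisation is the base. -/
theorem isIso_fromNormalization_of_bijective [IsAffine S] [IsProper f]
    (hf : Function.Bijective f.appTop.hom) : IsIso f.fromNormalization := by
  haveI : IsAffine f.normalization := isAffine_of_isAffineHom f.fromNormalization
  haveI h1 : IsIso (f.toNormalization.app ⊤) :=
    NormalizationLemmas.isIso_toNormalization_app f ⊤
  have h2 : f.appTop = f.fromNormalization.appTop ≫ f.toNormalization.appTop := by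
    exact (congrArg Scheme.Hom.appTop f.toNormalization_fromNormalization).symm.trans (Scheme.Hom.comp_appTop _ _)
  haveI : IsIso f.toNormalization.appTop := h1
  haveI : IsIso f.appTop := (ConcreteCategory.isIso_iff_bijective _).2 hf
  haveI : IsIso (f.fromNormalization.appTop ≫ f.toNormalization.appTop) := h2 ▸ ‹IsIso f.appTop›
  haveI : IsIso f.fromNormalization.appTop := IsIso.of_isIso_comp_right _ f.toNormalization.appTop
  exact (MorphismProperty.arrow_mk_iso_iff (MorphismProperty.isomorphisms _) (arrowIsoSpecΓOfIsAffine f.fromNormalization)).2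
    (inferInstanceAs (IsIso (Spec.map f.fromNormalization.appTop)))

section Limit

variable {I : Type u} [SmallCategory I] [IsCofiltered I] {DX DS : I ⥤ Scheme.{u}} (φ : DX ⟶ DS)
  {T : Scheme.{u}} (q : (Functor.const I).obj T ⟶ DS)

/-- The system of fibres over a point of the limit. -/
@[simps]
def fibreSys : I ⥤ Scheme.{u} where
  obj i := pullback (φ.app i) (q.app i)
  map {i j} a := pullback.map _ _ _ _ (DX.map a) (𝟙 T) (DS.map a) (φ.naturality a).symm
    (by have := q.naturality a; simpa using this.symm)
  map_id i := by ext <;> simp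
  map_comp a b := by ext <;> simp

theorem isAffineHom_fibreSys_map (h : ∀ (i j : I) (a : i ⟶ j), IsAffineHom (DX.map a) ∧ IsAffineHom (DS.map a))
    {i j : I} (a : i ⟶ j) : IsAffineHom ((fibreSys φ q).map a) := by
  haveI := (h i j a).1
  haveI := (h i j a).2
  have e1 : φ.app i ≫ DS.map a = DX.map a ≫ φ.app j := (φ.naturality a).symm
  have e2 : q.app i ≫ DS.map a = 𝟙 T ≫ q.app j := by have := q.naturality a; simpa using this.symm
  haveI : IsAffineHom (pullback.map (φ.app i ≫ DS.map a) (q.app i ≫ DS.map a) (φ.app j) (q.app j) (DX.map a) (𝟙 T)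
      (𝟙 _) (by rw [Category.comp_id, e1]) (by rw [Category.comp_id, e2])) :=
    MorphismProperty.pullbackMap (P := @IsAffineHom) (h i j a).1 (inferInstance : IsAffineHom (𝟙 T)) e1 e2
  have : (fibreSys φ q).map a = pullback.mapDesc (φ.app i) (q.app i) (DS.map a) ≫
      pullback.map (φ.app i ≫ DS.map a) (q.app i ≫ DS.map a) (φ.app j) (q.app j) (DX.map a) (𝟙 T)
        (𝟙 _) (by rw [Category.comp_id, e1]) (by rw [Category.comp_id, e2]) := by
    dsimp only [fibreSys]
    apply pullback.hom_ext <;> simp
  rw [this]
  infer_instance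

end Limit

/-- **Zariski's connectedness theorem** over an affine base, no Noetherian hypothesis. -/
theorem connectedSpace_pullback_of_bijApp [IsAffine S] [IsProper f] (hf : RigidLib.BijApp f) {K : Type u}
    [Field K] (p : Spec (CommRingCat.of K) ⟶ S) : ConnectedSpace ↥(pullback f p) := by
  haveI := isIso_fromNormalization_of_bijective f (hf ⊤)
  haveI : Surjective f := surjective_of_bijApp f hf
  haveI : Surjective (pullback.snd f p) := MorphismProperty.pullback_snd _ _ ‹Surjective f›
  haveI : Nonempty ↥(pullback f p) := by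
    obtain ⟨z, -⟩ := (pullback.snd f p).surjective (IsLocalRing.closedPoint K)
    exact ⟨z⟩
  haveI : IsProper (pullback.snd f p) := MorphismProperty.pullback_snd _ _ ‹IsProper f›
  obtain ⟨I, _, _, DX, DS, φ, pX, pS, hX, hS, haff, hobj, hsq⟩ := NApproxLib.exists_proper_arrow_limit f
  let q : (Functor.const I).obj (Spec (CommRingCat.of K)) ⟶ DS :=
    { app := fun i => p ≫ pS.app i
      naturality := fun i j a => by
        have := pS.naturality a
        simp only [Functor.const_obj_obj, Functor.const_obj_map, Category.id_comp] at this ⊢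
        rw [Category.assoc, ← this] }
  let c : Cone (fibreSys φ q) := Cone.mk (pullback f p)
    { app := fun i => pullback.map f p (φ.app i) (q.app i) (pX.app i) (𝟙 _) (pS.app i) (hsq i).symm
        (by simp [q])
      naturality := fun i j a => by
        have h1 := pX.naturality a
        have h2 := pS.naturality a
        simp only [Functor.const_obj_obj, Functor.const_obj_map, Category.id_comp] at h1 h2 ⊢
        apply pullback.hom_ext <;> simp [← h1] }
  let lX : ∀ s : Cone (fibreSys φ q), s.pt ⟶ X := fun s => hX.lift (Cone.mk s.pt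
    { app := fun i => s.π.app i ≫ pullback.fst _ _
      naturality := fun i j a => by simp [← s.w a] })
  have hlX : ∀ s i, lX s ≫ pX.app i = s.π.app i ≫ pullback.fst _ _ := fun s i => hX.fac _ i
  have hsnd : ∀ (s : Cone (fibreSys φ q)) (i j : I), s.π.app i ≫ pullback.snd _ _ = s.π.app j ≫ pullback.snd _ _ := by
    intro s i j
    obtain ⟨k, a, b, -⟩ := IsCofilteredOrEmpty.cone_objs i j
    rw [← s.w a, ← s.w b]
    simp
  haveI : Nonempty I := IsCofiltered.nonempty
  let lK : ∀ s : Cone (fibreSys φ q), s.pt ⟶ Spec (CommRingCat.of K) := fun s =>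
    s.π.app (Classical.arbitrary I) ≫ pullback.snd _ _
  have hl : ∀ s, lX s ≫ f = lK s ≫ p := fun s => hS.hom_ext fun i => by
    show (lX s ≫ f) ≫ pS.app i = (lK s ≫ p) ≫ pS.app i
    rw [Category.assoc, ← hsq, reassoc_of% (hlX s i), Category.assoc]
    erw [pullback.condition]
    rw [← Category.assoc, hsnd s i (Classical.arbitrary I)]
  have hc : IsLimit c :=
    { lift := fun s => pullback.lift (lX s) (lK s) (hl s)
      fac := fun s i => by
        apply pullback.hom_ext
        · simp [c, hlX]
        · simp [c, lK, hsnd s (Classical.arbitrary I) i]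
      uniq := fun s m hm => by
        apply pullback.hom_ext
        · refine hX.hom_ext fun i => ?_
          show (m ≫ pullback.fst f p) ≫ pX.app i = (pullback.lift _ _ (hl s) ≫ pullback.fst f p) ≫ pX.app i
          rw [pullback.lift_fst, hlX, ← hm i]
          simp [c]
        · rw [pullback.lift_snd]
          simp [lK, ← hm (Classical.arbitrary I), c] }
  haveI : ∀ {i j : I} (a : i ⟶ j), IsAffineHom ((fibreSys φ q).map a) :=
    fun a => isAffineHom_fibreSys_map φ q haff a
  haveI hpr : ∀ i, IsProper (pullback.snd (φ.app i) (q.app i)) := fun i =>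
    MorphismProperty.pullback_snd _ _ (hobj i).1
  haveI : ∀ i : I, CompactSpace ↥(((Functor.const I).obj (Spec (CommRingCat.of K))).obj i) := fun _ => inferInstanceAs (CompactSpace ↥(Spec (CommRingCat.of K)))
  haveI : ∀ i : I, QuasiSeparatedSpace ↥(((Functor.const I).obj (Spec (CommRingCat.of K))).obj i) := fun _ => inferInstanceAs (QuasiSeparatedSpace ↥(Spec (CommRingCat.of K)))
  haveI : ∀ i, CompactSpace ↥((fibreSys φ q).obj i) := fun i =>
    QuasiCompact.compactSpace_of_compactSpace (pullback.snd (φ.app i) (q.app i))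
  haveI : CompactSpace ↥c.pt := QuasiCompact.compactSpace_of_compactSpace (pullback.snd f p)
  haveI : PreconnectedSpace ↥(pullback f p) := by
    refine preconnectedSpace_iff_clopen.2 fun s hs => ?_
    by_contra hne
    push Not at hne
    let U : c.pt.Opens := ⟨s, hs.2⟩
    let V : c.pt.Opens := ⟨sᶜ, hs.compl.2⟩
    obtain ⟨i₁, U₁, hU₁, eU⟩ := exists_preimage_eq _ c hc U hs.1.isCompact
    obtain ⟨i₂, V₁, hV₁, eV⟩ := exists_preimage_eq _ c hc V hs.compl.1.isCompact
    obtain ⟨i, a₁, a₂, -⟩ := IsCofilteredOrEmpty.cone_objs i₁ i₂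
    let U₂ := (fibreSys φ q).map a₁ ⁻¹ᵁ U₁
    let V₂ := (fibreSys φ q).map a₂ ⁻¹ᵁ V₁
    have hU₂ : c.π.app i ⁻¹ᵁ U₂ = U := by
      rw [← Scheme.Hom.comp_preimage, c.w, eU]
    have hV₂ : c.π.app i ⁻¹ᵁ V₂ = V := by
      rw [← Scheme.Hom.comp_preimage, c.w, eV]
    have hU₂c : IsCompact (U₂ : Set ↥((fibreSys φ q).obj i)) :=
      QuasiCompact.isCompact_preimage (f := (fibreSys φ q).map a₁) _ U₁.2 hU₁
    have hV₂c : IsCompact (V₂ : Set ↥((fibreSys φ q).obj i)) :=
      QuasiCompact.isCompact_preimage (f := (fibreSys φ q).map a₂) _ V₁.2 hV₁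
    haveI : QuasiSeparatedSpace ↥((fibreSys φ q).obj i) :=
      quasiSeparatedSpace_of_quasiSeparated (pullback.snd (φ.app i) (q.app i))
    obtain ⟨j, b, hb⟩ := exists_map_preimage_le_map_preimage _ c hc (U := U₂ ⊓ V₂) (V := ⊥)
      (hU₂c.inter_of_isOpen hV₂c U₂.2 V₂.2)
      (fun x hx => by
        rw [show c.π.app i ⁻¹ᵁ (U₂ ⊓ V₂) = U ⊓ V by rw [← hU₂, ← hV₂]; rfl] at hx
        exact absurd hx.1 hx.2)
    obtain ⟨j', b', hb'⟩ := exists_map_eq_top _ c hc ((fibreSys φ q).map b ⁻¹ᵁ (U₂ ⊔ V₂))
      (by
        rw [← Scheme.Hom.comp_preimage, c.w]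
        refine eq_top_iff.2 fun x _ => ?_
        show x ∈ c.π.app i ⁻¹ᵁ U₂ ⊔ c.π.app i ⁻¹ᵁ V₂
        rw [hU₂, hV₂]
        exact (em (x ∈ s)).elim Or.inl Or.inr)
    let m := (fibreSys φ q).map b' ≫ (fibreSys φ q).map b
    let A : Set ↥((fibreSys φ q).obj j') := m ⁻¹' (U₂ : Set _)
    let B : Set ↥((fibreSys φ q).obj j') := m ⁻¹' (V₂ : Set _)
    -- the connected closed part containing the image of the limit
    haveI : IsProper (φ.app j') := (hobj j').1
    haveI : IsLocallyNoetherian (DS.obj j') := NApproxLib.isLocallyNoetherian_of_isFTZ (hobj j').2.2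
    let ν := (φ.app j').fromNormalization
    let Z := pullback ν (pS.app j')
    let l : X ⟶ Z := pullback.lift (pX.app j' ≫ (φ.app j').toNormalization) f (by
      rw [Category.assoc, Scheme.Hom.toNormalization_fromNormalization, hsq])
    let σ : S ⟶ (φ.app j').normalization :=
      inv f.fromNormalization ≫ f.normalizationDesc l (pullback.snd ν (pS.app j')) (pullback.lift_snd _ _ _).symm ≫
        pullback.fst ν (pS.app j')
    have hσ : σ ≫ ν = pS.app j' := by
      simp only [σ, Category.assoc]
      rw [pullback.condition, Scheme.Hom.normalizationDesc_comp_assoc, IsIso.inv_hom_id_assoc]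
    have hσ' : f ≫ σ = pX.app j' ≫ (φ.app j').toNormalization := by
      have e : f ≫ inv f.fromNormalization = f.toNormalization := by
        rw [IsIso.comp_inv_eq, Scheme.Hom.toNormalization_fromNormalization]
      simp only [σ]
      rw [reassoc_of% e, Scheme.Hom.toNormalization_normalizationDesc_assoc, pullback.lift_fst]
    haveI := geometricallyConnected_toNormalization (φ.app j')
    haveI : ConnectedSpace ↥(pullback (φ.app j').toNormalization (p ≫ σ)) :=
      GeometricallyConnected.geometrically_connectedSpace _ _ _ (IsPullback.of_hasPullback _ _)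
    let incl : pullback (φ.app j').toNormalization (p ≫ σ) ⟶ (fibreSys φ q).obj j' :=
      pullback.lift (pullback.fst _ _) (pullback.snd _ _) (by
        calc _ = pullback.fst _ _ ≫ (φ.app j').toNormalization ≫ ν := by
              rw [Scheme.Hom.toNormalization_fromNormalization]
            _ = pullback.snd _ _ ≫ (p ≫ σ) ≫ ν := by rw [pullback.condition_assoc]
            _ = _ := by rw [Category.assoc, hσ])
    let fac : pullback f p ⟶ pullback (φ.app j').toNormalization (p ≫ σ) :=
      pullback.lift (pullback.fst _ _ ≫ pX.app j') (pullback.snd _ _) (by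
        rw [Category.assoc, ← hσ', pullback.condition_assoc])
    have hfac : fac ≫ incl = c.π.app j' := by
      apply pullback.hom_ext <;> simp [fac, incl, c]
    have hP := isPreconnected_range incl.continuous
    have hAB : A ∩ B = ∅ := Set.eq_empty_of_forall_notMem fun x hx => by
      exact hb (show (fibreSys φ q).map b' x ∈ (fibreSys φ q).map b ⁻¹ᵁ (U₂ ⊓ V₂) from ⟨hx.1, hx.2⟩)
    have hcov : Set.range incl ⊆ A ∪ B := fun x _ =>
      (show x ∈ (fibreSys φ q).map b' ⁻¹ᵁ ((fibreSys φ q).map b ⁻¹ᵁ (U₂ ⊔ V₂)) from hb'.ge trivial)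
    have key : ∀ x : ↥c.pt, c.π.app j' x ∈ Set.range incl := fun x => ⟨fac x, by
      rw [← Scheme.Hom.comp_apply, hfac]; rfl⟩
    have hcm : c.π.app j' ≫ m = c.π.app i := by simp only [m, ← Functor.map_comp]; exact c.w _
    have keyU : ∀ x : ↥c.pt, x ∈ s → c.π.app j' x ∈ A := fun x hx => by
      show (c.π.app j' ≫ m) x ∈ U₂
      rw [hcm]
      exact hU₂.ge hx
    have keyV : ∀ x : ↥c.pt, x ∉ s → c.π.app j' x ∈ B := fun x hx => by
      show (c.π.app j' ≫ m) x ∈ V₂
      rw [hcm]
      exact hV₂.ge hx
    obtain ⟨x, hx⟩ := hne.1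
    obtain ⟨y, hy⟩ := (Set.ne_univ_iff_exists_notMem s).1 hne.2
    obtain ⟨z, -, hz⟩ := hP A B (U₂.2.preimage m.continuous) (V₂.2.preimage m.continuous) hcov
      ⟨_, key x, keyU x hx⟩ ⟨_, key y, keyV y hy⟩
    rw [hAB] at hz
    exact hz
  exact ⟨inferInstance⟩

/-- **Zariski's connectedness theorem**: fibres are geometrically connected if only constants are functions. -/
theorem geometricallyConnected_of_bijApp [IsProper f] (hf : RigidLib.BijApp f) : GeometricallyConnected f := by
  refine ⟨fun K _ p P a b H => ?_⟩
  obtain ⟨_, ⟨U : S.Opens, hU, rfl⟩, hjU, -⟩ :=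
    S.isBasis_affineOpens.exists_subset_of_mem_open (Set.mem_univ (p (IsLocalRing.closedPoint K))) isOpen_univ
  have hr : Set.range p ⊆ Set.range U.ι := by
    rintro _ ⟨z, rfl⟩
    rw [Scheme.Opens.range_ι, Subsingleton.elim z (IsLocalRing.closedPoint K)]
    exact hjU
  let p' := IsOpenImmersion.lift U.ι p hr
  have hp : p' ≫ U.ι = p := IsOpenImmersion.lift_fac _ _ _
  haveI : IsAffine (U : Scheme.{u}) := hU
  haveI : IsProper (f ∣_ U) := MorphismProperty.of_isPullback (isPullback_morphismRestrict f U).flip ‹_›
  have hbij : RigidLib.BijApp (f ∣_ U) := fun V => by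
    rw [morphismRestrict_app, CommRingCat.hom_comp, RingHom.coe_comp]
    exact (ConcreteCategory.bijective_of_isIso (X.presheaf.map (eqToHom _).op)).comp (hf _)
  haveI := connectedSpace_pullback_of_bijApp (f ∣_ U) hbij p'
  let l := (isPullback_morphismRestrict f U).lift (b ≫ p') a (by rw [Category.assoc, hp]; exact H.w.symm)
  have hl : IsPullback l b (f ∣_ U) p' := by
    refine IsPullback.of_right ?_ (IsPullback.lift_fst _ _ _ _) (isPullback_morphismRestrict f U).flip
    rw [IsPullback.lift_snd, hp]
    exact H
  exact hl.isoPullback.inv.surjective.connectedSpace hl.isoPullback.inv.continuous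

/-- The Stein factorisation has geometrically connected fibres over any base. -/
theorem geometricallyConnected_toNormalization' [IsProper f] : GeometricallyConnected f.toNormalization :=
  geometricallyConnected_of_bijApp _ (bijApp_toNormalization f)

end Groth.Agent.SteinConn
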