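import Groth.Agent.SteinConn.General
import Groth.Agent.Hensel.Idempotent
import Groth.Agent.SchFinLib.Connected

/-!
# Connectedness of proper schemes over henselian pairs
-/

set_option autoImplicit false
set_option backward.isDefEq.respectTransparency false
set_option linter.style.haveILetI false
set_option linter.unusedSectionVars false

universe u

open CategoryTheory CategoryTheory.Limits AlgebraicGeometry

noncomputable section

namespace Groth.Agent.SteinConn

theorem connectedSpace_iff_of_proper {X Y : Scheme.{u}} (g : X ⟶ Y) [IsProper g] [Surjective g]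
    [GeometricallyConnected g] : ConnectedSpace ↥X ↔ ConnectedSpace ↥Y := by
  refine ⟨fun _ => g.surjective.connectedSpace g.continuous, fun _ => ?_⟩
  haveI : Nonempty ↥X := (g.surjective (Classical.arbitrary ↥Y)).nonempty
  refine connectedSpace_iff_clopen.2 ⟨inferInstance, fun V hV => ?_⟩
  have hfib : ∀ x, g ⁻¹' {g x} ⊆ V ∨ g ⁻¹' {g x} ⊆ Vᶜ := fun x => by
    haveI : ConnectedSpace ↥(g.fiber (g x)) := inferInstance
    have hc : _root_.IsPreconnected (g ⁻¹' {g x}) := by
      rw [← Scheme.Hom.range_fiberι]
      exact isPreconnected_range (g.fiberι (g x)).continuous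
    by_cases hx : x ∈ V
    · exact Or.inl (hc.subset_isClopen hV ⟨x, rfl, hx⟩)
    · exact Or.inr (hc.subset_isClopen hV.compl ⟨x, rfl, hx⟩)
  have hdisj : (g '' V)ᶜ = g '' Vᶜ := by
    ext y
    obtain ⟨x, rfl⟩ := g.surjective y
    refine ⟨fun h => ⟨x, fun hx => h ⟨x, hx, rfl⟩, rfl⟩, ?_⟩
    rintro ⟨a, ha, hax⟩ ⟨b, hb, hbx⟩
    rcases hfib x with h | h
    · exact ha (h hax)
    · exact h hbx hb
  have hclopen : IsClopen (g '' V) :=
    ⟨g.isClosedMap _ hV.1, isClosed_compl_iff.1 (hdisj ▸ g.isClosedMap _ hV.compl.1)⟩
  rcases isClopen_iff.1 hclopen with h | h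
  · exact Or.inl (Set.image_eq_empty.1 h)
  · refine Or.inr (Set.eq_univ_of_forall fun x => ?_)
    by_contra hx
    have : g x ∈ g '' Vᶜ := ⟨x, hx, rfl⟩
    rw [← hdisj, h] at this
    exact this trivial

theorem connectedSpace_primeSpectrum_iff {A B : Type*} [CommRing A] (I : Ideal A) [hI : HenselianRing A I]
    [CommRing B] [Algebra A B] [Algebra.IsIntegral A B] :
    ConnectedSpace (PrimeSpectrum (B ⧸ I.map (algebraMap A B))) ↔ ConnectedSpace (PrimeSpectrum B) := by
  have hb := Hensel.bijOn_idempotent (A := A) (I := I) B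
  constructor
  · intro h
    have := PrimeSpectrum.nonempty_iff_nontrivial.1 h.toNonempty
    haveI : Nontrivial B := (Ideal.Quotient.mk (I.map (algebraMap A B))).domain_nontrivial
    refine SchFinLib.connectedSpace_of_idem fun e he => ?_
    rcases SchFinLib.eq_zero_or_one_of_idem (he.map (Ideal.Quotient.mk (I.map (algebraMap A B)))) with h | h
    · exact Or.inl (hb.injOn he IsIdempotentElem.zero (h.trans (map_zero _).symm))
    · exact Or.inr (hb.injOn he IsIdempotentElem.one (h.trans (map_one _).symm))
  · intro h
    haveI := PrimeSpectrum.nonempty_iff_nontrivial.1 h.toNonempty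
    haveI : Nontrivial (B ⧸ I.map (algebraMap A B)) := by
      refine Ideal.Quotient.nontrivial_iff.2 fun htop => one_ne_zero (α := B) ?_
      exact hb.injOn IsIdempotentElem.one IsIdempotentElem.zero
        (Ideal.Quotient.eq.2 (by rw [htop]; exact Submodule.mem_top))
    refine SchFinLib.connectedSpace_of_idem fun e he => ?_
    obtain ⟨b, hb', rfl⟩ := hb.surjOn he
    rcases SchFinLib.eq_zero_or_one_of_idem hb' with rfl | rfl
    · exact Or.inl (map_zero _)
    · exact Or.inr (map_one _)

theorem connectedSpace_pullback_SpecMap_iff {A : Type u} [CommRing A] (I : Ideal A) [HenselianRing A I]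
    {B : CommRingCat.{u}} (φ : CommRingCat.of A ⟶ B) (hφ : φ.hom.IsIntegral) :
    ConnectedSpace ↥(pullback (Spec.map φ) (Spec.map (CommRingCat.ofHom (Ideal.Quotient.mk I)))) ↔
      ConnectedSpace ↥(Spec B) := by
  let j := Spec.map (CommRingCat.ofHom (Ideal.Quotient.mk I))
  let π := pullback.fst (Spec.map φ) j
  haveI : IsClosedImmersion j := IsClosedImmersion.spec_of_surjective _ Ideal.Quotient.mk_surjective
  haveI : IsClosedImmersion π := MorphismProperty.pullback_fst _ _ inferInstance
  algebraize [φ.hom]
  let q := PrimeSpectrum.comap (Ideal.Quotient.mk (I.map (algebraMap A B)))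
  have hq : Topology.IsEmbedding q :=
    (PrimeSpectrum.isClosedEmbedding_comap_of_surjective _ _ Ideal.Quotient.mk_surjective).isEmbedding
  have hrange : Set.range π = Set.range q := by
    rw [range_comap_of_surjective _ _ Ideal.Quotient.mk_surjective, Ideal.mk_ker,
      Scheme.Pullback.range_fst]
    show PrimeSpectrum.comap φ.hom ⁻¹' Set.range (PrimeSpectrum.comap (Ideal.Quotient.mk I)) = _
    rw [range_comap_of_surjective _ _ Ideal.Quotient.mk_surjective, Ideal.mk_ker,
      PrimeSpectrum.preimage_comap_zeroLocus]
    exact (PrimeSpectrum.zeroLocus_span _).symm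
  refine Iff.trans ?_ (connectedSpace_primeSpectrum_iff (A := A) (B := B) I)
  have e := (π.isClosedEmbedding.isEmbedding.toHomeomorph.trans (Homeomorph.setCongr hrange)).trans
    hq.toHomeomorph.symm
  exact ⟨fun _ => e.surjective.connectedSpace e.continuous,
    fun _ => e.symm.surjective.connectedSpace e.symm.continuous⟩

theorem connectedSpace_iff_pullback_quotient {A : Type u} [CommRing A] (I : Ideal A) [HenselianRing A I]
    {X : Scheme.{u}} (f : X ⟶ Spec (CommRingCat.of A)) [IsProper f] :
    ConnectedSpace ↥X ↔
      ConnectedSpace ↥(pullback f (Spec.map (CommRingCat.ofHom (Ideal.Quotient.mk I)))) := by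
  let j := Spec.map (CommRingCat.ofHom (Ideal.Quotient.mk I))
  haveI : IsAffine f.normalization := isAffine_of_isAffineHom f.fromNormalization
  let e := f.normalization.isoSpec
  let φ := Spec.preimage (e.inv ≫ f.fromNormalization)
  have hSφ : Spec.map φ = e.inv ≫ f.fromNormalization := Spec.map_preimage _
  have hint : φ.hom.IsIntegral := by
    rw [← IsIntegralHom.SpecMap_iff, hSφ]
    infer_instance
  let τ := f.toNormalization ≫ e.hom
  have hτ : τ ≫ Spec.map φ = f := by
    rw [hSφ, Category.assoc, Iso.hom_inv_id_assoc, f.toNormalization_fromNormalization]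
  haveI : Surjective f.toNormalization := surjective_of_bijApp _ (bijApp_toNormalization f)
  haveI := geometricallyConnected_toNormalization' f
  haveI : IsProper τ := inferInstanceAs (IsProper (f.toNormalization ≫ e.hom))
  haveI : Surjective τ := inferInstanceAs (Surjective (f.toNormalization ≫ e.hom))
  haveI : GeometricallyConnected τ :=
    (MorphismProperty.cancel_right_of_respectsIso @GeometricallyConnected _ e.hom).2 inferInstance
  let τ₀ := pullback.snd τ (pullback.fst (Spec.map φ) j)
  haveI : IsProper τ₀ := MorphismProperty.pullback_snd _ _ inferInstance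
  haveI : Surjective τ₀ := MorphismProperty.pullback_snd _ _ inferInstance
  haveI : GeometricallyConnected τ₀ := MorphismProperty.pullback_snd _ _ inferInstance
  let i : pullback τ (pullback.fst (Spec.map φ) j) ≅ pullback f j :=
    pullbackRightPullbackFstIso (Spec.map φ) j τ ≪≫ pullback.congrHom hτ rfl
  rw [connectedSpace_iff_of_proper τ, ← connectedSpace_pullback_SpecMap_iff I φ hint,
    ← connectedSpace_iff_of_proper τ₀]
  exact ⟨fun _ => i.hom.homeomorph.surjective.connectedSpace i.hom.homeomorph.continuous,
    fun _ => i.inv.homeomorph.surjective.connectedSpace i.inv.homeomorph.continuous⟩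

end Groth.Agent.SteinConn
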