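import Groth.Agent.SteinConn.Special
import Groth.Agent.RigidLib.Proper
import Groth.Agent.GeomIrred.FinSep
import Groth.Agent.IntImage.Spread

/-!
# Zariski's connectedness theorem
-/

set_option autoImplicit false
set_option backward.isDefEq.respectTransparency false
set_option linter.style.haveILetI false
set_option linter.unusedSectionVars false

universe u

open CategoryTheory CategoryTheory.Limits AlgebraicGeometry TopologicalSpace IsLocalRing

noncomputable section

namespace Groth.Agent.SteinConn

variable {X Y : Scheme.{u}} (f : X ⟶ Y) [IsProper f] (hf : RigidLib.BijApp f)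

include hf

theorem isPreconnected_preimage_closedPoint {B : Type u} [CommRing B] [IsLocalRing B] [IsNoetherianRing B]
    (j : Spec (CommRingCat.of B) ⟶ Y) [Flat j] :
    _root_.IsPreconnected (pullback.snd f j ⁻¹' {closedPoint B}) := by
  obtain ⟨_, ⟨U : Y.Opens, hU, rfl⟩, hjU, -⟩ :=
    Y.isBasis_affineOpens.exists_subset_of_mem_open (Set.mem_univ (j (closedPoint B))) isOpen_univ
  have hr : Set.range j ⊆ Set.range U.ι := by
    rintro _ ⟨z, rfl⟩
    rw [Scheme.Opens.range_ι]
    exact ((IsLocalRing.specializes_closedPoint z).map j.continuous).mem_open U.2 hjU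
  let j' := IsOpenImmersion.lift U.ι j hr
  have hj : j' ≫ U.ι = j := IsOpenImmersion.lift_fac _ _ _
  haveI : IsAffine (U : Scheme.{u}) := hU
  have hpb : IsPullback (𝟙 _) j' j U.ι := ⟨⟨by rw [Category.id_comp, hj]⟩, ⟨PullbackCone.IsLimit.mk _ (fun s => s.fst)
    (fun s => Category.comp_id _)
    (fun s => by rw [← cancel_mono U.ι, Category.assoc, hj]; exact s.condition)
    (fun s m hm _ => by rw [← hm, Category.comp_id])⟩⟩
  haveI : Flat j' := MorphismProperty.of_isPullback hpb ‹_›
  haveI : IsProper (f ∣_ U) := MorphismProperty.of_isPullback (isPullback_morphismRestrict f U).flip ‹_›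
  let l : pullback f j ⟶ (f ⁻¹ᵁ U : Scheme.{u}) :=
    (isPullback_morphismRestrict f U).lift (pullback.snd f j ≫ j') (pullback.fst f j)
      (by rw [Category.assoc, hj]; exact pullback.condition.symm)
  have H : IsPullback l (pullback.snd f j) (f ∣_ U) j' := by
    refine IsPullback.of_right (h₁₂ := (f ⁻¹ᵁ U).ι) (v₁₃ := f) (h₂₂ := U.ι) ?_
      (IsPullback.lift_fst _ _ _ _) (isPullback_morphismRestrict f U).flip
    rw [IsPullback.lift_snd, hj]
    exact IsPullback.of_hasPullback f j
  haveI : CompactSpace ↥(f ⁻¹ᵁ U : Scheme.{u}) := QuasiCompact.compactSpace_of_compactSpace (f ∣_ U)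
  haveI : QuasiSeparatedSpace ↥(f ⁻¹ᵁ U : Scheme.{u}) := quasiSeparatedSpace_of_quasiSeparated (f ∣_ U)
  have h := RigidLib.bijective_appTop_of_isPullback H (RigidLib.bijective_restrict_appTop hf U)
  haveI : IsProper (pullback.snd f j) := MorphismProperty.pullback_snd _ _ ‹_›
  exact isPreconnected_closedFibre (pullback.snd f j)
    (h.2.comp (ConcreteCategory.bijective_of_isIso (Scheme.ΓSpecIso (CommRingCat.of B)).inv).2)

/-- The base change along a point over the closed point of a flat local scheme is connected. -/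
theorem preconnectedSpace_pullback {B L : Type u} [CommRing B] [IsLocalRing B] [IsNoetherianRing B] [Field L]
    (j : Spec (CommRingCat.of B) ⟶ Y) [Flat j] (φ : B →+* L) (hφ : Function.Surjective φ) :
    PreconnectedSpace ↥(pullback f (Spec.map (CommRingCat.ofHom φ) ≫ j)) := by
  let c := Spec.map (CommRingCat.ofHom φ)
  haveI : IsClosedImmersion c := IsClosedImmersion.spec_of_surjective _ hφ
  have hc : Set.range c = {closedPoint B} := by
    refine Set.eq_singleton_iff_unique_mem.2 ⟨?_, ?_⟩
    · refine ⟨closedPoint L, ?_⟩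
      refine PrimeSpectrum.ext ((IsLocalRing.eq_maximalIdeal ?_))
      exact Ideal.comap_isMaximal_of_surjective φ hφ
    · rintro _ ⟨z, rfl⟩
      refine PrimeSpectrum.ext ((IsLocalRing.eq_maximalIdeal ?_))
      haveI : (show PrimeSpectrum L from z).asIdeal.IsMaximal := by
        haveI := (show PrimeSpectrum L from z).isPrime
        rw [Ideal.eq_bot_of_prime (show PrimeSpectrum L from z).asIdeal]
        exact Ideal.bot_isMaximal
      exact Ideal.comap_isMaximal_of_surjective φ hφ
  let e := (pullbackLeftPullbackSndIso f j c).inv ≫ pullback.fst (pullback.snd f j) c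
  have hr : Set.range e = pullback.snd f j ⁻¹' {closedPoint B} := by
    have h1 := Scheme.Pullback.range_fst (f := pullback.snd f j) (g := c)
    rw [hc] at h1
    rw [← h1]
    exact Set.ext fun z => ⟨fun ⟨w, hw⟩ => ⟨(pullbackLeftPullbackSndIso f j c).inv w, hw⟩,
      fun ⟨w, hw⟩ => ⟨(pullbackLeftPullbackSndIso f j c).hom w, by
        show ((pullbackLeftPullbackSndIso f j c).hom ≫ (pullbackLeftPullbackSndIso f j c).inv ≫ pullback.fst _ _) w = z
        rw [Iso.hom_inv_id_assoc]; exact hw⟩⟩
  have hp := isPreconnected_preimage_closedPoint f hf j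
  rw [← hr, ← Set.image_univ] at hp
  exact ⟨(e.isEmbedding.isInducing.isPreconnected_image).1 hp⟩

/-- Fibres are non-empty. -/
theorem surjective_of_bijApp : Surjective f := ⟨fun y => by
  by_contra hy
  push Not at hy
  let U : Y.Opens := ⟨(Set.range f)ᶜ, f.isClosedMap.isClosed_range.isOpen_compl⟩
  have hU : f ⁻¹ᵁ U = ⊥ := Opens.ext (Set.eq_empty_of_forall_notMem fun x hx => hx ⟨x, rfl⟩)
  haveI : Subsingleton Γ(X, f ⁻¹ᵁ U) := by rw [hU]; infer_instance
  haveI : Subsingleton Γ(Y, U) := (hf U).1.subsingleton
  haveI : Nonempty U := ⟨⟨y, fun ⟨x, hx⟩ => hy x hx⟩⟩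
  exact not_subsingleton Γ(Y, U) inferInstance⟩

variable [IsLocallyNoetherian Y]

theorem connectedSpace_fiber (y : Y) : ConnectedSpace ↥(f.fiber y) := by
  haveI := IntImage.flat_fromSpecStalk y
  haveI : PreconnectedSpace ↥(f.fiber y) :=
    preconnectedSpace_pullback (B := ↑(Y.presheaf.stalk y)) (L := ↑(Y.residueField y)) f hf (Y.fromSpecStalk y)
      (Y.residue y).hom Ideal.Quotient.mk_surjective
  haveI : Nonempty ↥(f.fiber y) := by
    haveI := surjective_of_bijApp f hf
    obtain ⟨x, hx⟩ := f.surjective y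
    exact ⟨(f.fiberHomeo y).symm ⟨x, hx⟩⟩
  exact ⟨inferInstance⟩

/-- The fibres are geometrically connected. -/
theorem geometricallyConnected_fiber (y : Y) : GeometricallyConnected (f.fiberToSpecResidueField y) := by
  refine GeomIrred.geometricallyConnected_of_finite_separable (k := ↑(Y.residueField y)) (f.fiberToSpecResidueField y) fun L _ _ _ _ => ?_
  let R := Y.presheaf.stalk y
  let k := Y.residueField y
  let ρ : R →+* k := (Y.residue y).hom
  have hρ : Function.Surjective ρ := Ideal.Quotient.mk_surjective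
  let pb := Field.powerBasisOfFiniteOfSeparable k L
  obtain ⟨g, hg, hgd, hgm⟩ : ∃ g : Polynomial R, g.map ρ = minpoly k pb.gen ∧
      g.degree = (minpoly k pb.gen).degree ∧ g.Monic :=
    Polynomial.lifts_and_degree_eq_and_monic ((Polynomial.mem_lifts _).2 (Polynomial.map_surjective _ hρ _))
      (minpoly.monic pb.isIntegral_gen)
  let B := AdjoinRoot g
  let ψ : R →+* L := (algebraMap k L).comp ρ
  have heval : g.eval₂ ψ pb.gen = 0 := by
    rw [← Polynomial.eval₂_map, hg]
    exact minpoly.aeval k pb.gen
  let φ : B →+* L := AdjoinRoot.lift ψ pb.gen heval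
  have hφ : Function.Surjective φ := by
    intro z
    obtain ⟨q, hq⟩ := pb.exists_eq_aeval' z
    obtain ⟨h, rfl⟩ := Polynomial.map_surjective ρ hρ q
    refine ⟨AdjoinRoot.mk g h, ?_⟩
    rw [AdjoinRoot.lift_mk, hq, Polynomial.aeval_def, Polynomial.eval₂_map]
  haveI : Module.Finite R B := hgm.finite_adjoinRoot
  haveI : Module.Free R B := hgm.free_adjoinRoot
  haveI : IsNoetherianRing B := IsNoetherianRing.of_finite R B
  have hker : RingHom.ker φ ≤ (maximalIdeal R).map (algebraMap R B) := by
    intro b hb
    obtain ⟨h, rfl⟩ := AdjoinRoot.mk_surjective b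
    rw [RingHom.mem_ker, AdjoinRoot.lift_mk, ← Polynomial.eval₂_map, ← Polynomial.aeval_def] at hb
    obtain ⟨q, hq⟩ := minpoly.dvd k pb.gen hb
    obtain ⟨q, rfl⟩ := Polynomial.map_surjective ρ hρ q
    have h2 : h - g * q ∈ (maximalIdeal R).map Polynomial.C := by
      rw [Ideal.mem_map_C_iff]
      intro n
      have : ρ ((h - g * q).coeff n) = 0 := by
        rw [← Polynomial.coeff_map, Polynomial.map_sub, Polynomial.map_mul, hg, hq, sub_self, Polynomial.coeff_zero]
      exact Ideal.Quotient.eq_zero_iff_mem.1 this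
    have h3 := Ideal.mem_map_of_mem (AdjoinRoot.mk g) h2
    rw [Ideal.map_map, map_sub, map_mul, AdjoinRoot.mk_self, zero_mul, sub_zero] at h3
    exact h3
  haveI : IsLocalRing B := IsLocalRing.of_unique_max_ideal ⟨RingHom.ker φ, RingHom.ker_isMaximal_of_surjective φ hφ,
    fun n hn => by
      haveI : n.IsMaximal := hn
      refine ((RingHom.ker_isMaximal_of_surjective φ hφ).eq_of_le hn.ne_top (hker.trans ?_)).symm
      rw [Ideal.map_le_iff_le_comap, IsLocalRing.eq_maximalIdeal (Ideal.isMaximal_comap_of_isIntegral_of_isMaximal n)]⟩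
  let a : Spec (CommRingCat.of B) ⟶ Spec R := Spec.map (CommRingCat.ofHom (algebraMap R B))
  haveI : Flat a := by
    rw [HasRingHomProperty.Spec_iff (P := @Flat)]
    exact RingHom.flat_algebraMap_iff.2 inferInstance
  haveI := IntImage.flat_fromSpecStalk y
  haveI := preconnectedSpace_pullback f hf (a ≫ Y.fromSpecStalk y) φ hφ
  let b : Spec (CommRingCat.of L) ⟶ Spec (CommRingCat.of ↑(Y.residueField y)) :=
    Spec.map (CommRingCat.ofHom (algebraMap ↑(Y.residueField y) L))
  have hb : b ≫ Y.fromSpecResidueField y = Spec.map (CommRingCat.ofHom φ) ≫ a ≫ Y.fromSpecStalk y := by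
    show b ≫ Spec.map (Y.residue y) ≫ Y.fromSpecStalk y = _
    rw [← Category.assoc, ← Category.assoc (Spec.map (CommRingCat.ofHom φ)), ← Spec.map_comp, ← Spec.map_comp]
    congr 2
    ext r
    exact (AdjoinRoot.lift_of heval).symm
  let e : pullback f (Spec.map (CommRingCat.ofHom φ) ≫ a ≫ Y.fromSpecStalk y) ≅
      GeomIrred.bcs (k := ↑(Y.residueField y)) (f.fiberToSpecResidueField y) L :=
    pullback.congrHom rfl hb.symm ≪≫ (pullbackLeftPullbackSndIso f (Y.fromSpecResidueField y) b).symm
  haveI : PreconnectedSpace ↥(GeomIrred.bcs (k := ↑(Y.residueField y)) (f.fiberToSpecResidueField y) L) :=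
    e.hom.surjective.denseRange.preconnectedSpace e.hom.continuous
  haveI : Nonempty ↥(GeomIrred.bcs (k := ↑(Y.residueField y)) (f.fiberToSpecResidueField y) L) := by
    haveI : Surjective f := surjective_of_bijApp f hf
    haveI : Surjective (f.fiberToSpecResidueField y) := MorphismProperty.pullback_snd _ _ ‹Surjective f›
    haveI : Surjective (pullback.snd (f.fiberToSpecResidueField y) b) := MorphismProperty.pullback_snd _ _ inferInstance
    obtain ⟨z, -⟩ := (pullback.snd (f.fiberToSpecResidueField y) b).surjective (closedPoint L)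
    exact ⟨z⟩
  exact ⟨inferInstance⟩

theorem geometricallyConnected : GeometricallyConnected f := ⟨fun K _ p Z a b H => by
  haveI := geometricallyConnected_fiber f hf (p (closedPoint K))
  let e := Spec.map (Y.descResidueField (Scheme.stalkClosedPointTo p))
  have he : e ≫ Y.fromSpecResidueField _ = p := Y.descResidueField_stalkClosedPointTo_fromSpecResidueField _ _
  let l : Z ⟶ f.fiber (p (closedPoint K)) := pullback.lift a (b ≫ e) (by rw [Category.assoc, he]; exact H.w)
  have hl : IsPullback l b (f.fiberToSpecResidueField _) e := by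
    refine IsPullback.of_right ?_ (pullback.lift_snd _ _ _)
      (IsPullback.of_hasPullback f (Y.fromSpecResidueField _))
    rw [pullback.lift_fst, he]
    exact H
  exact GeometricallyConnected.geometrically_connectedSpace _ _ _ hl⟩

end Groth.Agent.SteinConn
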