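import Groth.Agent.FormalLib.Compare
import Groth.Agent.DVRFamilyLib.Basic
import Groth.Agent.DevLib.Closed

/-!
# Connectedness of the closed fibre
-/

set_option autoImplicit false
set_option backward.isDefEq.respectTransparency false
set_option linter.style.haveILetI false
set_option linter.unusedSectionVars false

universe u

open CategoryTheory AlgebraicGeometry TopologicalSpace IsLocalRing
open Groth.Agent.CohBase Groth.Agent.ProjCoh Groth.Agent.FormalLib

noncomputable section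

namespace Groth.Agent.SteinConn

variable {A : Type u} [CommRing A] {X : Scheme.{u}} (p : X ⟶ Spec (CommRingCat.of A))

theorem φV_eq_str (U : X.Opens) : φV (Coh.toGlobal p) U = DVRFamilyLib.str p U := by
  ext a
  rfl

theorem isUnit_of_mem_basicOpen_compl [IsLocalRing A] {U : X.Opens} (hU : IsAffineOpen U) (q : PrimeSpectrum Γ(X, U)) :
    p (hU.fromSpec q) = closedPoint A ↔ (maximalIdeal A).map (φV (Coh.toGlobal p) U) ≤ q.asIdeal := by
  rw [← Scheme.Hom.comp_apply, DVRFamilyLib.fromSpec_comp p hU, φV_eq_str, Ideal.map_le_iff_le_comap]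
  refine ⟨fun h => (congrArg PrimeSpectrum.asIdeal h).ge, fun h => PrimeSpectrum.ext ?_⟩
  exact ((maximalIdeal.isMaximal A).eq_of_le (Ideal.IsPrime.ne_top inferInstance) h).symm

theorem mem_basicOpen_fromSpec {U : X.Opens} (hU : IsAffineOpen U) (q : PrimeSpectrum Γ(X, U)) (e : Γ(X, U)) :
    hU.fromSpec q ∈ X.basicOpen e ↔ e ∉ q.asIdeal := by
  show q ∈ hU.fromSpec ⁻¹ᵁ X.basicOpen e ↔ _
  rw [hU.fromSpec_preimage_basicOpen]
  rfl

variable [IsLocalRing A]

/-- An almost idempotent cutting out a clopen part of the closed fibre on an affine open. -/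
theorem exists_idem {U : X.Opens} (hU : IsAffineOpen U) {S : Set X} (N : ℕ) (hN : N ≠ 0) {O O' : X.Opens}
    (hO : S = (O : Set X) ∩ p ⁻¹' {closedPoint A}) (hO' : p ⁻¹' {closedPoint A} \ S = (O' : Set X) ∩ p ⁻¹' {closedPoint A}) :
    ∃ e : Γ(X, U), e * e - e ∈ ((maximalIdeal A).map (φV (Coh.toGlobal p) U)) ^ N ∧
      ∀ x ∈ U, p x = closedPoint A → (x ∈ S ↔ x ∈ X.basicOpen e) := by
  let J := ((maximalIdeal A).map (φV (Coh.toGlobal p) U)) ^ N
  let g : PrimeSpectrum (Γ(X, U) ⧸ J) → X := fun P => hU.fromSpec (PrimeSpectrum.comap (Ideal.Quotient.mk J) P)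
  have hg : Continuous g := hU.fromSpec.continuous.comp (PrimeSpectrum.continuous_comap _)
  have hgp : ∀ P, p (g P) = closedPoint A := fun P => by
    refine (isUnit_of_mem_basicOpen_compl p hU _).2 ?_
    have h : J ≤ (PrimeSpectrum.comap (Ideal.Quotient.mk J) P).asIdeal := fun z hz => by
      show Ideal.Quotient.mk J z ∈ P.asIdeal
      rw [Ideal.Quotient.eq_zero_iff_mem.2 hz]
      exact zero_mem _
    exact ((PrimeSpectrum.comap _ P).isPrime.pow_le_iff hN).1 h
  have hclop : IsClopen (g ⁻¹' O) := by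
    refine ⟨⟨?_⟩, O.2.preimage hg⟩
    convert! O'.2.preimage hg using 1
    ext P
    refine ⟨fun h => ((Set.ext_iff.1 hO' _).1 ⟨hgp P, fun hS => h ((Set.ext_iff.1 hO _).1 hS).1⟩).1,
      fun h h' => ((Set.ext_iff.1 hO' _).2 ⟨h, hgp P⟩).2 ((Set.ext_iff.1 hO _).2 ⟨h', hgp P⟩)⟩
  obtain ⟨e, he, heq⟩ := PrimeSpectrum.isClopen_iff.1 hclop
  obtain ⟨e, rfl⟩ := Ideal.Quotient.mk_surjective e
  refine ⟨e, Ideal.Quotient.eq.1 ((map_mul _ _ _).trans he), fun x hx hpx => ?_⟩
  obtain ⟨q, rfl⟩ : x ∈ Set.range hU.fromSpec := hU.range_fromSpec.ge hx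
  have hq : J ≤ q.asIdeal := (q.isPrime.pow_le_iff hN).2 ((isUnit_of_mem_basicOpen_compl p hU q).1 hpx)
  obtain ⟨P, hP⟩ : q ∈ Set.range (PrimeSpectrum.comap (Ideal.Quotient.mk J)) := by
    rw [range_comap_of_surjective _ _ Ideal.Quotient.mk_surjective, Ideal.mk_ker]
    exact fun z hz => hq hz
  rw [mem_basicOpen_fromSpec, hO, ← hP]
  show g P ∈ (O : Set X) ∩ _ ↔ Ideal.Quotient.mk J e ∉ P.asIdeal
  refine (and_iff_left (show g P ∈ p ⁻¹' {closedPoint A} from hgp P)).trans ?_
  exact Set.ext_iff.1 heq P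

/-- Almost idempotents with the same zeros on the closed fibre agree. -/
theorem sub_mem_of_idem {W : X.Opens} (hW : IsAffineOpen W) (N : ℕ) (a b : Γ(X, W))
    (ha : a * a - a ∈ ((maximalIdeal A).map (φV (Coh.toGlobal p) W)) ^ N)
    (hb : b * b - b ∈ ((maximalIdeal A).map (φV (Coh.toGlobal p) W)) ^ N)
    (h : ∀ x ∈ W, p x = closedPoint A → (x ∈ X.basicOpen a ↔ x ∈ X.basicOpen b)) (hN : N ≠ 0) :
    a - b ∈ ((maximalIdeal A).map (φV (Coh.toGlobal p) W)) ^ N := by
  let J := ((maximalIdeal A).map (φV (Coh.toGlobal p) W)) ^ N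
  refine Ideal.Quotient.eq.1 (PrimeSpectrum.basicOpen_injOn_isIdempotentElem
    (show IsIdempotentElem _ from (map_mul _ _ _).symm.trans (Ideal.Quotient.eq.2 ha))
    (show IsIdempotentElem _ from (map_mul _ _ _).symm.trans (Ideal.Quotient.eq.2 hb)) ?_)
  ext P
  let q := PrimeSpectrum.comap (Ideal.Quotient.mk J) P
  have hq : J ≤ q.asIdeal := fun z hz => by
    show Ideal.Quotient.mk J z ∈ P.asIdeal
    rw [Ideal.Quotient.eq_zero_iff_mem.2 hz]
    exact zero_mem _
  have := h (hW.fromSpec q) (hW.range_fromSpec.le ⟨q, rfl⟩)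
    ((isUnit_of_mem_basicOpen_compl p hW q).2 ((q.isPrime.pow_le_iff hN).1 hq))
  rw [mem_basicOpen_fromSpec, mem_basicOpen_fromSpec] at this
  exact this

theorem mem_smul_top_iff_mem (J : Ideal A) (U : X.Opens) (s : Sec (Coh.toGlobal p) (Coh.structureModule X) U) :
    s ∈ J • (⊤ : Submodule A (Sec (Coh.toGlobal p) (Coh.structureModule X) U)) ↔
      (show Γ(X, U) from s) ∈ J.map (φV (Coh.toGlobal p) U) := by
  refine ⟨fun h => ?_, fun h => ?_⟩
  · refine Submodule.smul_induction_on (p := fun (s : Sec (Coh.toGlobal p) (Coh.structureModule X) U) => (show Γ(X, U) from s) ∈ J.map (φV (Coh.toGlobal p) U)) h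
      (fun r hr t _ => Ideal.mul_mem_right _ _ (Ideal.mem_map_of_mem _ hr)) fun _ _ hs ht => Ideal.add_mem _ hs ht
  · have key : ∀ z ∈ J.map (φV (Coh.toGlobal p) U),
        (show Sec (Coh.toGlobal p) (Coh.structureModule X) U from z) ∈
          J • (⊤ : Submodule A (Sec (Coh.toGlobal p) (Coh.structureModule X) U)) := by
      intro z hz
      refine Submodule.span_induction (p := fun (z : Γ(X, U)) _ => (show Sec (Coh.toGlobal p) (Coh.structureModule X) U from z) ∈
          J • (⊤ : Submodule A (Sec (Coh.toGlobal p) (Coh.structureModule X) U))) ?_ (zero_mem _)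
          (fun _ _ _ _ => add_mem) ?_ hz
      · rintro _ ⟨a, ha, rfl⟩
        have := Submodule.smul_mem_smul ha (Submodule.mem_top (R := A) (x := toSec (Coh.toGlobal p) (M := Coh.structureModule X) (show Γ(X, U) from 1)))
        rw [sec_smul] at this
        convert this using 1
        exact (_root_.mul_one (φV (Coh.toGlobal p) U a : Γ(X, U))).symm
      · intro r z _ hz
        have := Submodule.mem_map_of_mem (f := secMul (Coh.toGlobal p) (Coh.structureModule X) r) hz
        rw [Submodule.map_smul''] at this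
        exact Submodule.smul_mono le_rfl le_top this
    exact key _ h

variable [IsNoetherianRing A] [IsProper p]

/-- Zariski connectedness over a local ring. -/
theorem eq_empty_or_of_clopen (hΓ : Function.Surjective (Coh.toGlobal p)) {S : Set X} {O O' : X.Opens}
    (hO : S = (O : Set X) ∩ p ⁻¹' {closedPoint A}) (hO' : p ⁻¹' {closedPoint A} \ S = (O' : Set X) ∩ p ⁻¹' {closedPoint A}) :
    S = ∅ ∨ S = p ⁻¹' {closedPoint A} := by
  classical
  haveI : IsLocallyNoetherian X := LocallyOfFiniteType.isLocallyNoetherian p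
  obtain ⟨ι, hι, V, hcov, haff⟩ := exists_affine_cover p
  haveI := hι
  obtain ⟨c, hc⟩ := exists_cocycle_near p (Coh.structureModule X) V (DevLib.isCoh_structureModule X) hcov haff (maximalIdeal A) 0
  have hV : ∀ i : Fin 1 → ι, IsAffineOpen (inter V i) := haff 0
  choose e he1 he2 using fun i => exists_idem p (hV i) (1 + c) (by omega) hO hO'
  have hmap : ∀ (U : X.Opens) (n : ℕ), (maximalIdeal A ^ n).map (φV (Coh.toGlobal p) U) =
      ((maximalIdeal A).map (φV (Coh.toGlobal p) U)) ^ n := fun U n => Ideal.map_pow _ _ _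
  obtain ⟨y, hy, hze⟩ := hc 1 (fun i => toSec _ (M := Coh.structureModule X) (e i)) (by
    rw [FormalLib.mem_smul_top_iff]
    intro i
    rw [dL_eq, mem_smul_top_iff_mem, hmap]
    rw [cdiff_zero_apply]
    let W := inter V i
    let r (j : Fin 2) : Γ(X, inter V (i ∘ j.succAbove)) →+* Γ(X, W) :=
      (X.presheaf.map (homOfLE (inter_comp_le V i j.succAbove)).op).hom
    have hr : ∀ j, ((maximalIdeal A).map (φV (Coh.toGlobal p) (inter V (i ∘ j.succAbove)))).map (r j) =
        (maximalIdeal A).map (φV (Coh.toGlobal p) W) := fun j => by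
      rw [Ideal.map_map]
      exact congrArg (fun f => Ideal.map f _) (RingHom.ext fun b => res_φV _ _ b)
    have hj : ∀ j : Fin 2, r j (e (i ∘ j.succAbove)) * r j (e (i ∘ j.succAbove)) - r j (e (i ∘ j.succAbove)) ∈
        ((maximalIdeal A).map (φV (Coh.toGlobal p) W)) ^ (1 + c) := fun j => by
      rw [← hr j, ← Ideal.map_pow, ← map_mul, ← map_sub]
      exact Ideal.mem_map_of_mem _ (he1 _)
    refine sub_mem_of_idem p (haff 1 i) (1 + c) _ _ (hj 0) (hj 1) (fun x hx hpx => ?_) (by omega)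
    have hb : ∀ j : Fin 2, x ∈ X.basicOpen (r j (e (i ∘ j.succAbove))) ↔ x ∈ S := fun j => by
      have hle := inter_comp_le V i j.succAbove
      refine Iff.trans ?_ (he2 _ x (hle hx) hpx).symm
      show x ∈ X.basicOpen (X.presheaf.map (homOfLE hle).op (e (i ∘ j.succAbove))) ↔ _
      rw [Scheme.basicOpen_res]
      exact ⟨fun h => h.2, fun h => ⟨hx, h⟩⟩
    exact (hb 0).trans (hb 1).symm)
  rw [pow_one, FormalLib.mem_smul_top_iff] at hze
  rw [dL_eq] at hy
  obtain ⟨s, hs⟩ := aug_exact (U := V) (Coh.toAb (Coh.structureModule X)) (fun _ => le_top) hcov y hy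
  obtain ⟨a, ha⟩ := hΓ s
  have hzi : ∀ i, e i - φV (Coh.toGlobal p) (inter V i) a ∈ (maximalIdeal A).map (φV (Coh.toGlobal p) (inter V i)) := by
    intro i
    have h1 := (mem_smul_top_iff_mem p _ _ _).1 (hze i)
    convert h1 using 1
    refine congrArg (e i - ·) ?_
    rw [← hs]
    show X.presheaf.map _ (Coh.toGlobal p a) = X.presheaf.map _ s
    rw [ha]
  have key : ∀ x, p x = closedPoint A → ∃ i, ∃ hx : x ∈ inter V i, (x ∈ S ↔ a ∉ maximalIdeal A) := fun x hpx => by
    obtain ⟨k, hk⟩ := Opens.mem_iSup.1 (hcov (Set.mem_univ x))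
    have hx : x ∈ inter V (fun _ : Fin 1 => k) := (inter_const (U := V) k).le hk
    refine ⟨_, hx, (he2 _ x hx hpx).trans ?_⟩
    obtain ⟨q, rfl⟩ : x ∈ Set.range (hV fun _ => k).fromSpec := (hV fun _ => k).range_fromSpec.ge hx
    rw [mem_basicOpen_fromSpec, not_iff_not]
    have hq := (isUnit_of_mem_basicOpen_compl p (hV fun _ => k) q).1 hpx
    have h1 := hq (hzi fun _ => k)
    constructor
    · intro h
      have h2 : φV (Coh.toGlobal p) _ a ∈ q.asIdeal := by simpa using sub_mem h h1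
      by_contra hu
      exact q.isPrime.ne_top (Ideal.eq_top_of_isUnit_mem _ h2 ((notMem_maximalIdeal.1 hu).map _))
    · intro h
      simpa using add_mem h1 (hq (Ideal.mem_map_of_mem _ h))
  have hsub : S ⊆ p ⁻¹' {closedPoint A} := hO ▸ Set.inter_subset_right
  by_cases hu : a ∈ maximalIdeal A
  · refine Or.inl (Set.eq_empty_of_forall_notMem fun x hx => ?_)
    obtain ⟨i, -, h⟩ := key x (hsub hx)
    exact h.1 hx hu
  · refine Or.inr (hsub.antisymm fun x hx => ?_)
    obtain ⟨i, -, h⟩ := key x hx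
    exact h.2 hu

/-- The closed fibre is connected. -/
theorem isPreconnected_closedFibre (hΓ : Function.Surjective (Coh.toGlobal p)) :
    _root_.IsPreconnected (p ⁻¹' {closedPoint A}) := by
  rintro U V hU hV hsub ⟨x, hx, hxU⟩ ⟨y, hy, hyV⟩
  by_contra hne
  rw [Set.not_nonempty_iff_eq_empty] at hne
  have hd : ∀ z, p z = closedPoint A → z ∈ U → z ∉ V := fun z hz h1 h2 =>
    Set.eq_empty_iff_forall_notMem.1 hne z ⟨hz, h1, h2⟩
  rcases eq_empty_or_of_clopen p hΓ (S := U ∩ p ⁻¹' {closedPoint A}) (O := ⟨U, hU⟩) (O' := ⟨V, hV⟩) rfl (by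
    ext z
    exact ⟨fun ⟨h1, h2⟩ => ⟨(hsub h1).resolve_left fun h => h2 ⟨h, h1⟩, h1⟩,
      fun ⟨h1, h2⟩ => ⟨h2, fun h => hd z h2 h.1 h1⟩⟩) with h | h
  · exact Set.eq_empty_iff_forall_notMem.1 h x ⟨hxU, hx⟩
  · exact hd y hy ((Set.ext_iff.1 h y).2 hy).1 hyV

end Groth.Agent.SteinConn
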