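import Groth.Agent.GeomIrred.Connected
import Groth.Prelude.Def_MoreMor

/-!
# Components of fibres through a section
-/

set_option autoImplicit false
set_option backward.isDefEq.respectTransparency false
set_option linter.style.haveILetI false
set_option linter.unusedSectionVars false

universe u

open CategoryTheory CategoryTheory.Limits AlgebraicGeometry TopologicalSpace IsLocalRing

noncomputable section

namespace Groth.Agent.SteinConn

/-- The connected component of a rational point stays connected after any extension. -/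
theorem isPreconnected_preimage_component {k : Type u} [Field k] {Z : Scheme.{u}} (f : Z ⟶ Spec (CommRingCat.of k))
    (z : Spec (CommRingCat.of k) ⟶ Z) (hz : z ≫ f = 𝟙 _) (K : Type u) [Field K] [Algebra k K] :
    _root_.IsPreconnected (pullback.fst f (Spec.map (CommRingCat.ofHom (algebraMap k K))) ⁻¹'
      connectedComponent (z (closedPoint k))) := by
  haveI : Subsingleton ↥(Spec (CommRingCat.of k)) := inferInstanceAs (Subsingleton (PrimeSpectrum k))
  have hr : ({z (closedPoint k)} : Set Z) = Set.range z :=
    Set.ext fun w => ⟨fun h => ⟨closedPoint k, h.symm⟩, fun ⟨v, hv⟩ => hv ▸ congrArg z (Subsingleton.elim _ _)⟩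
  refine (GeomIrred.isConnected_preimage_of_subset f isClosed_connectedComponent isConnected_connectedComponent
    (Y := {z (closedPoint k)}) (Set.singleton_subset_iff.2 mem_connectedComponent) (Set.singleton_nonempty _)
    (fun L _ _ _ _ => ?_) K).2
  rw [hr, ← GeomIrred.range_map_of_comp f z L]
  haveI : IsIso (z ≫ f) := hz ▸ inferInstance
  haveI : Subsingleton ↥(pullback (z ≫ f) (Spec.map (CommRingCat.ofHom (algebraMap k L)))) := by
    haveI : Subsingleton ↥(Spec (CommRingCat.of L)) := inferInstanceAs (Subsingleton (PrimeSpectrum L))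
    exact (Scheme.homeoOfIso (asIso (pullback.snd (z ≫ f) (Spec.map (CommRingCat.ofHom (algebraMap k L)))))).injective.subsingleton
  exact (Set.subsingleton_range _).isPreconnected

variable {X Y X' Y' : Scheme.{u}} (f : X ⟶ Y) (s : Y ⟶ X) (hs : s ≫ f = 𝟙 Y)
  (f' : X' ⟶ Y') (g' : X' ⟶ X) (g : Y' ⟶ Y) (hc : IsPullback g' f' f g)
  (s' : Y' ⟶ X') (hs' : s' ≫ f' = 𝟙 Y') (hs'g : s' ≫ g' = g ≫ s)

include hs in
theorem apply_section (y : Y) : f (s y) = y := by
  rw [← Scheme.Hom.comp_apply, hs]; rfl

include hs hc hs' hs'g in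
/-- Components through a section commute with base change. -/
theorem sectionComponents_baseChange :
    MoreMor.sectionComponents f' s' = g' ⁻¹' MoreMor.sectionComponents f s := by
  ext x
  have hgf : ∀ z, f (g' z) = g (f' z) := fun z => by
    rw [← Scheme.Hom.comp_apply, ← Scheme.Hom.comp_apply, hc.w]
  show x ∈ connectedComponentIn (f' ⁻¹' {f' x}) (s' (f' x)) ↔
    g' x ∈ connectedComponentIn (f ⁻¹' {f (g' x)}) (s (f (g' x)))
  generalize hy : f' x = y'
  rw [hgf, hy]
  have hsg : g' (s' y') = s (g y') := by
    rw [← Scheme.Hom.comp_apply, hs'g]; rfl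
  refine ⟨fun h => ?_, fun h => ?_⟩
  · refine (isPreconnected_connectedComponentIn.image g' g'.continuous.continuousOn).subset_connectedComponentIn
      ⟨s' y', mem_connectedComponentIn (apply_section f' s' hs' y'), hsg⟩ ?_ ⟨x, h, rfl⟩
    rintro _ ⟨z, hz, rfl⟩
    show f (g' z) = g y'
    rw [hgf, show f' z = y' from connectedComponentIn_subset (f' ⁻¹' {y'}) (s' y') hz]
  letI := (g.residueFieldMap y').hom.toAlgebra
  let F := f.fiberToSpecResidueField (g y')
  let pt : Spec (CommRingCat.of ↑(Y.residueField (g y'))) ⟶ f.fiber (g y') :=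
    pullback.lift (Y.fromSpecResidueField (g y') ≫ s) (𝟙 _) (by
      rw [Category.assoc, hs, Category.comp_id, Category.id_comp])
  have hpt : pt ≫ F = 𝟙 _ := pullback.lift_snd _ _ _
  have hpre := isPreconnected_preimage_component (k := ↑(Y.residueField (g y'))) F pt hpt ↑(Y'.residueField y')
  have H := isPullback_fiberToSpecResidueField_of_isPullback hc y'
  let a := H.isoPullback
  let l := a.inv ≫ f'.fiberι y'
  have hl : l ≫ g' = pullback.fst F (Spec.map (g.residueFieldMap y')) ≫ f.fiberι (g y') := by
    show (a.inv ≫ f'.fiberι y') ≫ g' = _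
    rw [Category.assoc, ← H.isoPullback_inv_fst, Category.assoc]
    congr 1
    exact (pullback.lift_fst _ _ _).symm
  have hc1 : f.fiberι (g y') (pt (closedPoint _)) = s (g y') := by
    rw [← Scheme.Hom.comp_apply]
    show (pt ≫ pullback.fst f (Y.fromSpecResidueField (g y'))) _ = _
    rw [pullback.lift_fst, Scheme.Hom.comp_apply]
    exact congrArg s (Scheme.fromSpecResidueField_apply _ _)
  have hK : connectedComponent (pt (closedPoint _)) =
      f.fiberι (g y') ⁻¹' connectedComponentIn (f ⁻¹' {g y'}) (s (g y')) := by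
    refine Set.Subset.antisymm (fun w hw => ?_) fun w hw => ?_
    · refine (isPreconnected_connectedComponent.image _ (f.fiberι (g y')).continuous.continuousOn).subset_connectedComponentIn
        ⟨_, mem_connectedComponent, hc1⟩ ?_ ⟨w, hw, rfl⟩
      rintro _ ⟨v, -, rfl⟩
      exact (Set.ext_iff.1 (f.range_fiberι (g y')) _).1 ⟨v, rfl⟩
    · have h1 : _root_.IsPreconnected (f.fiberι (g y') ⁻¹' connectedComponentIn (f ⁻¹' {g y'}) (s (g y'))) := by
        refine (f.fiberι (g y')).isEmbedding.isInducing.isPreconnected_image.1 ?_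
        rw [Set.image_preimage_eq_of_subset (by rw [f.range_fiberι]; exact connectedComponentIn_subset _ _)]
        exact isPreconnected_connectedComponentIn
      refine h1.subset_connectedComponent ?_ hw
      refine Set.mem_preimage.2 ?_
      exact hc1.symm ▸ mem_connectedComponentIn (apply_section f s hs _)
  rw [hK] at hpre
  have himg : _root_.IsPreconnected (l '' (pullback.fst F (Spec.map (g.residueFieldMap y')) ⁻¹'
      (f.fiberι (g y') ⁻¹' connectedComponentIn (f ⁻¹' {g y'}) (s (g y'))))) :=
    hpre.image l l.continuous.continuousOn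
  have mem : ∀ z, f' z = y' → g' z ∈ connectedComponentIn (f ⁻¹' {g y'}) (s (g y')) →
      z ∈ l '' (pullback.fst F (Spec.map (g.residueFieldMap y')) ⁻¹'
      (f.fiberι (g y') ⁻¹' connectedComponentIn (f ⁻¹' {g y'}) (s (g y')))) := fun z hz hzK => by
    obtain ⟨w, hw⟩ : z ∈ Set.range (f'.fiberι y') := by rw [f'.range_fiberι]; exact hz
    have hai : l (a.hom w) = z := by
      rw [← hw]
      exact congrArg (fun t : f'.fiber y' ⟶ X' => t w) (Iso.hom_inv_id_assoc a (f'.fiberι y'))
    refine ⟨a.hom w, Set.mem_preimage.2 (Set.mem_preimage.2 ?_), hai⟩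
    have h2 : g' (l (a.hom w)) = f.fiberι (g y') (pullback.fst F (Spec.map (g.residueFieldMap y')) (a.hom w)) :=
      congrArg (fun t => t.base (a.hom w)) hl
    rw [hai] at h2
    exact h2 ▸ hzK
  refine himg.subset_connectedComponentIn
    (mem _ (apply_section f' s' hs' y') (by rw [hsg]; exact mem_connectedComponentIn (apply_section f s hs _))) ?_
    (mem x hy h)
  rintro _ ⟨w, -, rfl⟩
  show f' ((a.inv ≫ f'.fiberι y') w) = y'
  rw [Scheme.Hom.comp_apply]
  exact (Set.ext_iff.1 (f'.range_fiberι y') _).1 ⟨_, rfl⟩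

end Groth.Agent.SteinConn
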