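import Groth.Agent.SteinConn.GeomComponents
import Groth.Agent.GenIrredLib.QFCount
import Groth.Agent.GenIrredLib.DVRCount
import Groth.Agent.OpenDim.Split

/-!
# Semicontinuity of the number of geometric connected components for proper morphisms
-/

set_option autoImplicit false
set_option backward.isDefEq.respectTransparency false
set_option linter.style.haveILetI false
set_option linter.unusedSectionVars false

universe u

open CategoryTheory CategoryTheory.Limits AlgebraicGeometry IsLocalRing TopologicalSpace Topology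
open Groth.Agent.GenIrredLib

noncomputable section

namespace Groth.Agent.SteinConn

theorem card_components_of_totallyDisconnected (Z : Type u) [TopologicalSpace Z] [TotallyDisconnectedSpace Z] :
    ENat.card (_root_.ConnectedComponents Z) = ENat.card Z := by
  have hc : Function.Bijective (ConnectedComponents.mk : Z → _root_.ConnectedComponents Z) :=
    ⟨fun a b h => by
      have h1 := ConnectedComponents.coe_eq_coe'.1 h
      rwa [connectedComponent_eq_singleton, Set.mem_singleton_iff] at h1, ConnectedComponents.surjective_coe⟩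
  exact (ENat.card_congr (Equiv.ofBijective _ hc)).symm

theorem nGeomConnComp_integral_eq_card {W B : Scheme.{u}} (q : W ⟶ B) [IsIntegralHom q] (L : Type u) [Field L]
    [IsSepClosed L] (z : Spec (CommRingCat.of L) ⟶ B) [IsPreimmersion z] (y : B) (hy : z (closedPoint L) = y) :
    MoreMor.nGeomConnComp q y = ENat.card ↑(q ⁻¹' {y}) := by
  rw [show MoreMor.nGeomConnComp q y = ENat.card (_root_.ConnectedComponents ↥(pullback q z)) from
    (congrArg Prod.snd (counts_eq_nGeom q L z y hy)).symm]
  let P := pullback q z
  let s : P ⟶ Spec (CommRingCat.of L) := pullback.snd q z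
  haveI : IsIntegralHom s := MorphismProperty.pullback_snd _ _ ‹IsIntegralHom q›
  haveI : IsAffine P := isAffine_of_isAffineHom s
  haveI : TotallyDisconnectedSpace ↥P := by
    let e := P.isoSpec
    obtain ⟨φ, hφ⟩ := Spec.map_surjective (e.inv ≫ s)
    letI : Algebra L Γ(P, ⊤) := φ.hom.toAlgebra
    haveI : IsIntegralHom (Spec.map φ) := hφ ▸ inferInstance
    haveI : Algebra.IsIntegral L Γ(P, ⊤) :=
      Algebra.isIntegral_def.2 fun a => (IsIntegralHom.SpecMap_iff.1 ‹IsIntegralHom (Spec.map φ)›) a
    haveI : TotallyDisconnectedSpace ↥(Spec Γ(P, ⊤)) := totallyDisconnected_spectrum L Γ(P, ⊤)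
    exact ⟨fun T _ hT p hp r hr => e.hom.isOpenEmbedding.injective
      ((hT.image e.hom e.hom.continuous.continuousOn).subsingleton (Set.mem_image_of_mem _ hp)
        (Set.mem_image_of_mem _ hr))⟩
  rw [card_components_of_totallyDisconnected]
  have hr : Set.range (pullback.fst q z) = q ⁻¹' {y} := by
    rw [Scheme.Pullback.range_fst]
    congr 1
    exact Set.ext fun w => ⟨fun ⟨v, hv⟩ => hv ▸ hy ▸ congrArg z (Subsingleton.elim v _),
      fun hw => ⟨closedPoint L, hy.trans hw.symm⟩⟩
  exact ENat.card_congr
    ((Equiv.ofInjective _ (pullback.fst q z).isEmbedding.injective).trans (Equiv.setCongr hr))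

/-- Openness at a point lets it be generalised into a neighbouring noetherian fibre. -/
theorem exists_specializes_of_isOpenAt {X B : Scheme.{u}} (f : X ⟶ B) [LocallyOfFiniteType f] [QuasiCompact f]
    {x : X} {η : B} (hη : η ⤳ f x) (hopen : EGA43.IsOpenAt f.base x) : ∃ ζ, f ζ = η ∧ ζ ⤳ x := by
  by_contra hh
  push Not at hh
  haveI : IsNoetherian (f.fiber η) := by
    haveI : LocallyOfFiniteType (f.fiberToSpecResidueField η) := MorphismProperty.pullback_snd _ _ inferInstance
    haveI : QuasiCompact (f.fiberToSpecResidueField η) := MorphismProperty.pullback_snd _ _ inferInstance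
    haveI : IsLocallyNoetherian (f.fiber η) := LocallyOfFiniteType.isLocallyNoetherian (f.fiberToSpecResidueField η)
    haveI : CompactSpace ↥(f.fiber η) := QuasiCompact.compactSpace_of_compactSpace (f.fiberToSpecResidueField η)
    exact {}
  have hmem : ∀ p, f (f.fiberι η p) = η := fun p => (Set.ext_iff.1 (f.range_fiberι η) _).1 ⟨p, rfl⟩
  let G : Set X := f.fiberι η '' {p | IsGenericPoint p (irreducibleComponent p)}
  have hG : G.Finite := by
    refine Set.Finite.image _ (Set.Finite.of_finite_image ((NoetherianSpace.finite_irreducibleComponents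
      (α := ↥(f.fiber η))).subset (?_ : (fun p => irreducibleComponent p) '' _ ⊆ _)) ?_)
    · rintro _ ⟨p, -, rfl⟩
      exact irreducibleComponent_mem_irreducibleComponents p
    · intro p hp p' hp' e
      exact IsGenericPoint.eq (show IsGenericPoint p (irreducibleComponent p) from hp)
        ((show irreducibleComponent p = irreducibleComponent p' from e) ▸ (show IsGenericPoint p' (irreducibleComponent p') from hp'))
  have hsep : ∀ ζ ∈ G, ∃ U : Set X, IsOpen U ∧ x ∈ U ∧ ζ ∉ U := fun ζ hζ => by
    obtain ⟨p, -, rfl⟩ := hζ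
    have h1 := hh _ (hmem p)
    rw [specializes_iff_forall_open] at h1
    push Not at h1
    exact h1
  choose! U hUo hxU hζU using hsep
  have hN : (⋂ ζ ∈ G, U ζ) ∈ 𝓝 x := (hG.isOpen_biInter fun ζ hζ => hUo ζ hζ).mem_nhds (Set.mem_iInter₂.2 hxU)
  obtain ⟨O, hOsub, hO, hcO⟩ := mem_nhds_iff.1 (hopen _ hN)
  obtain ⟨t, ht, hte⟩ := hOsub (hη.mem_open hO hcO)
  obtain ⟨p, rfl⟩ := (Set.ext_iff.1 (f.range_fiberι η) t).2 hte
  have hZ := irreducibleComponent_mem_irreducibleComponents p
  obtain ⟨g, hg⟩ := QuasiSober.sober hZ.1 (isClosed_irreducibleComponent (x := p))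
  have hgg : IsGenericPoint g (irreducibleComponent g) := by
    have e : irreducibleComponent g = irreducibleComponent p := by
      have hgm : g ∈ irreducibleComponent p := hg.mem
      have h2 := (irreducibleComponent_mem_irreducibleComponents g)
      refine Set.Subset.antisymm (hZ.2 h2.1 ?_) ?_
      · rw [← hg.def]
        exact closure_minimal (Set.singleton_subset_iff.2 mem_irreducibleComponent) isClosed_irreducibleComponent
      · rw [← hg.def]
        exact closure_minimal (Set.singleton_subset_iff.2 mem_irreducibleComponent) isClosed_irreducibleComponent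
    rw [e]; exact hg
  have hgp : f.fiberι η g ⤳ f.fiberι η p := (hg.specializes mem_irreducibleComponent).map (f.fiberι η).continuous
  exact hζU _ ⟨g, hgg, rfl⟩ (hgp.mem_open (hUo _ ⟨g, hgg, rfl⟩) (Set.mem_iInter₂.1 ht _ ⟨g, hgg, rfl⟩))

/-- The number of geometric components does not drop under generisation at a universally open proper fibre. -/
theorem nGeomConnComp_le_of_specializes_proper {X Y : Scheme.{u}} (f : X ⟶ Y) [IsProper f] {y z : Y} (hzy : z ⤳ y)
    (h : ∀ x, f x = y → EGA43.IsUnivOpenAt f x) : MoreMor.nGeomConnComp f y ≤ MoreMor.nGeomConnComp f z := by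
  obtain ⟨Ω, _, _, V, g, hgc, hgη⟩ := exists_valuation_hom hzy
  by_cases hV : maximalIdeal V = ⊥
  · have : (closedPoint V : Spec (CommRingCat.of V)) = valGeneric V := PrimeSpectrum.ext hV
    rw [← hgc, ← hgη, this]
  let f' := pullback.snd f g
  haveI : IsProper f' := MorphismProperty.pullback_snd _ _ inferInstance
  let u := f'.toNormalization
  let q := f'.fromNormalization
  have hfac : u ≫ q = f' := f'.toNormalization_fromNormalization
  haveI := surjective_of_bijApp u (bijApp_toNormalization f')
  haveI : IsAlgClosed (ResidueField V) := NormalSepClosed.isAlgClosed_residueField Ω hV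
  haveI : IsClosedImmersion (Spec.map (CommRingCat.ofHom (residue V))) :=
    IsClosedImmersion.spec_of_surjective _ residue_surjective
  haveI : IsPreimmersion (Spec.map (CommRingCat.ofHom V.subtype)) := IsPreimmersion.of_isLocalization (nonZeroDivisors V)
  have hc : MoreMor.nGeomConnComp f' (closedPoint V) = ENat.card ↑(q ⁻¹' {closedPoint V}) :=
    (nGeomConnComp_eq f' (closedPoint V)).2.trans
      (nGeomConnComp_integral_eq_card q (ResidueField V) (Spec.map (CommRingCat.ofHom (residue V))) _
        (IsLocalRing.comap_closedPoint (residue V)))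
  have hη : MoreMor.nGeomConnComp f' (valGeneric V) = ENat.card ↑(q ⁻¹' {valGeneric V}) := by
    refine (nGeomConnComp_eq f' (valGeneric V)).2.trans
      (nGeomConnComp_integral_eq_card q Ω (Spec.map (CommRingCat.ofHom V.subtype)) _ (PrimeSpectrum.ext ?_))
    show (maximalIdeal Ω).comap V.subtype = ⊥
    rw [maximalIdeal_eq_bot, ← RingHom.ker_eq_comap_bot]
    exact (RingHom.injective_iff_ker_eq_bot _).1 Subtype.val_injective
  have hlift : ∀ w : ↑(q ⁻¹' {closedPoint V}), ∃ v : ↑(q ⁻¹' {valGeneric V}), v.1 ⤳ w.1 := by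
    rintro ⟨w, hw⟩
    obtain ⟨x, rfl⟩ := u.surjective w
    have hx : f' x = closedPoint V := by rw [← hfac]; exact hw
    have hopen : EGA43.IsOpenAt f'.base x := UnivOpenAtLib.isOpenAt_of_isPullback (h _ (by
      rw [← Scheme.Hom.comp_apply, pullback.condition, Scheme.Hom.comp_apply, hx, hgc]))
      (IsPullback.of_hasPullback f g) x rfl
    obtain ⟨ζ, hζ, hζx⟩ := exists_specializes_of_isOpenAt f' (η := valGeneric V)
      (by rw [hx]; exact IsLocalRing.specializes_closedPoint _) hopen
    exact ⟨⟨u ζ, by show q (u ζ) = _; rw [← Scheme.Hom.comp_apply, hfac, hζ]⟩, hζx.map u.continuous⟩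
  choose F hF using hlift
  have hinj : Function.Injective F := fun w w' e => Subtype.ext
    (eq_of_specializes_integral V q (F w).2 (hF w) (e ▸ hF w') (w.2.trans w'.2.symm))
  have e1 := congrArg Prod.snd (nGeom_baseChange f f' (pullback.fst f g) g (IsPullback.of_hasPullback f g) (closedPoint V))
  have e2 := congrArg Prod.snd (nGeom_baseChange f f' (pullback.fst f g) g (IsPullback.of_hasPullback f g) (valGeneric V))
  simp only [hgc, hgη] at e1 e2
  rw [← e1, ← e2, hc, hη]
  exact ENat.card_le_card_of_injective hinj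

theorem mem_nhds_nGeomConnComp_le {X Y : Scheme.{u}} [IsLocallyNoetherian Y] (f : X ⟶ Y)
    [LocallyOfFiniteType f] [QuasiCompact f] [QuasiSeparated f] (y : Y)
    (hle : ∀ z, z ⤳ y → MoreMor.nGeomConnComp f y ≤ MoreMor.nGeomConnComp f z) :
    ∃ V ∈ 𝓝 y, ∀ z ∈ V, MoreMor.nGeomConnComp f y ≤ MoreMor.nGeomConnComp f z := by
  haveI : LocallyOfFinitePresentation f := LocallyOfFinitePresentation.iff_locallyOfFiniteType.2 inferInstance
  exact ⟨_, mem_nhds_of_generizations
    (isLocallyConstructible_nGeom f fun p => MoreMor.nGeomConnComp f y ≤ p.2) hle, fun z hz => hz⟩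

theorem lowerSemicontinuous_nGeomConnComp_proper {X Y : Scheme.{u}} (f : X ⟶ Y) [IsProper f]
    [LocallyOfFinitePresentation f] (h : ∀ x, EGA43.IsUnivOpenAt f x) :
    LowerSemicontinuous (fun z : Y => MoreMor.nGeomConnComp f z) := by
  rw [lowerSemicontinuous_iff_isOpen_preimage]
  intro m
  refine isOpen_iff_mem_nhds.2 fun y hy => ?_
  obtain ⟨U, hU, hyU, -⟩ := exists_isAffineOpen_mem_and_subset (X := Y) (x := y) (U := ⊤) trivial
  have hc : IsConstructible (hU.fromSpec ⁻¹' {z : Y | m < MoreMor.nGeomConnComp f z}) :=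
    ((isLocallyConstructible_nGeom f fun p => m < p.2).preimage_of_isOpenEmbedding
      hU.fromSpec.isOpenEmbedding).isConstructible
  have hopen := PrimeSpectrum.isOpen_of_stableUnderGeneralization_of_isConstructible
    (R := Γ(Y, U)) (s := hU.fromSpec ⁻¹' {z : Y | m < MoreMor.nGeomConnComp f z})
    (fun a b hab ha => lt_of_lt_of_le (show m < MoreMor.nGeomConnComp f (hU.fromSpec a) from ha)
      (nGeomConnComp_le_of_specializes_proper f (hab.map hU.fromSpec.continuous) fun x _ => h x)) hc
  obtain ⟨y₁, rfl⟩ : y ∈ Set.range hU.fromSpec := by rw [hU.range_fromSpec]; exact hyU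
  exact Filter.mem_of_superset (hU.fromSpec.isOpenEmbedding.isOpenMap.image_mem_nhds (hopen.mem_nhds hy))
    (Set.image_preimage_subset _ _)

/-- Semicontinuity at a geometrically unibranch point for dominant components. -/
theorem mem_nhds_nGeomConnComp_le_of_geomUnibranch {X Y : Scheme.{u}} [IrreducibleSpace Y] [IsLocallyNoetherian Y]
    (f : X ⟶ Y) [IsProper f]
    (hdom : ∀ Z ∈ irreducibleComponents (X : Type u), closure (f.base '' Z) = Set.univ) (y₀ : Y)
    (hy : CAlg2.IsGeomUnibranch (Y.presheaf.stalk y₀)) :
    ∃ V ∈ 𝓝 y₀, ∀ z ∈ V, MoreMor.nGeomConnComp f y₀ ≤ MoreMor.nGeomConnComp f z := by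
  let ν := f.fromNormalization
  haveI := S1297.result f
  haveI : LocallyQuasiFinite ν := inferInstance
  haveI := surjective_of_bijApp f.toNormalization (bijApp_toNormalization f)
  have hopen : ∀ w, ν w = y₀ → EGA43.IsUnivOpenAt ν w := by
    intro w hw
    refine OpenDim.univOpenAt_of_quasiFinite ν w (ChevalleyOpen.locFinComp_of_isLocallyNoetherian Y) (hw ▸ hy) fun z _ hz y hyz => ?_
    obtain ⟨x, rfl⟩ := f.toNormalization.surjective z
    have hZ := irreducibleComponent_mem_irreducibleComponents x
    obtain ⟨ξ, hξ⟩ := QuasiSober.sober hZ.1 (isClosed_irreducibleComponent (x := x))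
    have hg : IsGenericPoint (f ξ) (Set.univ : Set Y) := by
      show closure {f ξ} = Set.univ
      rw [← hdom _ hZ, ← hξ.def]
      show _ = closure (f '' closure {ξ})
      rw [closure_image_closure f.continuous, Set.image_singleton]
    have h1 : f.toNormalization ξ = f.toNormalization x :=
      hz _ ((hξ.specializes mem_irreducibleComponent).map f.toNormalization.continuous)
    have h2 : ν (f.toNormalization x) = f ξ := by
      rw [← h1, ← Scheme.Hom.comp_apply, f.toNormalization_fromNormalization]
    rw [h2] at hyz ⊢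
    exact (hyz.antisymm (hg.specializes trivial)).eq
  refine mem_nhds_nGeomConnComp_le f y₀ fun z hz => ?_
  rw [(nGeomConnComp_eq f y₀).2, (nGeomConnComp_eq f z).2]
  exact nGeomConnComp_le_of_specializes ν hz hopen

end Groth.Agent.SteinConn
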