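import Groth.Agent.SteinConn.GeomPoints
import Groth.Agent.FEtLib.Restrict

/-!
# Finite étale covers along morphisms with geometrically connected fibres
-/

set_option autoImplicit false
set_option backward.isDefEq.respectTransparency false
set_option linter.style.haveILetI false
set_option linter.unusedSectionVars false

universe u

open CategoryTheory CategoryTheory.Limits AlgebraicGeometry

noncomputable section

namespace Groth.Agent.SteinConn

variable {X S : Scheme.{u}} (f : X ⟶ S) [GeometricallyConnected f]

theorem clopensDescend_of_geometricallyConnected [IsProper f] [UniversallyOpen f] [Surjective f] :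
    FEtLib.ClopensDescend f := by
  intro W V hV
  let b := FEtLib.bcFst f W
  haveI : IsProper b := MorphismProperty.pullback_fst _ _ inferInstance
  haveI : UniversallyOpen b := MorphismProperty.pullback_fst _ _ inferInstance
  haveI : GeometricallyConnected b := MorphismProperty.pullback_fst _ _ inferInstance
  refine ⟨b '' V, ⟨b.isClosedMap _ hV.1, b.isOpenMap _ hV.2⟩, Set.Subset.antisymm ?_ fun z hz => ⟨z, hz, rfl⟩⟩
  rintro z ⟨v, hv, hvz⟩
  haveI : ConnectedSpace ↥(b.fiber (b z)) := inferInstance
  have hc : _root_.IsPreconnected (b ⁻¹' {b z}) := by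
    rw [← Scheme.Hom.range_fiberι]
    exact isPreconnected_range (b.fiberι (b z)).continuous
  exact hc.subset_isClopen hV ⟨v, hvz, hv⟩ rfl

theorem fullyFaithful_restrict [IsProper f] [UniversallyOpen f] [Surjective f] :
    (FEt.restrict f).Full ∧ (FEt.restrict f).Faithful :=
  have hm : FEtLib.MeetsClopens f := fun U _ ⟨p, hp⟩ => by
    obtain ⟨x, rfl⟩ := f.surjective p
    exact ⟨x, hp⟩
  ⟨FEtLib.full f hm (clopensDescend_of_geometricallyConnected f), FEtLib.faithful f hm⟩

end Groth.Agent.SteinConn
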