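import Groth.Agent.SteinConn.General
import Groth.Agent.S0415

/-!
# Universal homeomorphisms from geometric connectedness
-/

set_option autoImplicit false
set_option backward.isDefEq.respectTransparency false
set_option linter.style.haveILetI false
set_option linter.unusedSectionVars false

universe u

open CategoryTheory CategoryTheory.Limits AlgebraicGeometry TopologicalSpace

noncomputable section

namespace Groth.Agent.SteinConn

/-- A connected integral algebra over a field has at most one rational point. -/
theorem sections_eq_of_preconnected {K B : Type u} [Field K] [CommRing B] [Algebra K B] [Algebra.IsIntegral K B]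
    [PreconnectedSpace (PrimeSpectrum B)] (s₁ s₂ : B →ₐ[K] K) : s₁ = s₂ := by
  refine AlgHom.ext fun b => ?_
  let x := b - algebraMap K B (s₁ b)
  let C := Algebra.adjoin K {x}
  haveI : Module.Finite K C := Algebra.finite_adjoin_simple_of_isIntegral (Algebra.IsIntegral.isIntegral x)
  haveI : IsArtinianRing C := IsArtinianRing.of_finite K C
  haveI : DiscreteTopology (PrimeSpectrum C) := inferInstance
  let π : PrimeSpectrum B → PrimeSpectrum C := PrimeSpectrum.comap C.val.toRingHom
  have hπ : Continuous π := PrimeSpectrum.continuous_comap C.val.toRingHom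
  have hker : ∀ s : B →ₐ[K] K, (RingHom.ker s).IsPrime := fun s => RingHom.ker_isPrime s
  let p₁ : PrimeSpectrum B := ⟨RingHom.ker s₁, hker s₁⟩
  let p₂ : PrimeSpectrum B := ⟨RingHom.ker s₂, hker s₂⟩
  have h := PreconnectedSpace.constant (inferInstance : PreconnectedSpace (PrimeSpectrum B)) hπ (x := p₁) (y := p₂)
  have hx : (⟨x, Algebra.self_mem_adjoin_singleton K x⟩ : C) ∈ (π p₁).asIdeal := by
    show s₁ x = 0
    simp [x]
  rw [h] at hx
  have hx' : s₂ x = 0 := hx
  simp only [x, map_sub, AlgHom.commutes, Algebra.algebraMap_self, RingHom.id_apply, sub_eq_zero] at hx'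
  exact hx'.symm

variable {X Y S : Scheme.{u}} (g : X ⟶ Y) (ν : Y ⟶ S)

/-- The integral part of a geometrically connected morphism is universally injective. -/
theorem universallyInjective_of_comp [Surjective g] [IsIntegralHom ν] [GeometricallyConnected (g ≫ ν)] :
    UniversallyInjective ν := by
  refine ((tfae_universallyInjective ν).out 1 0).1 ?_
  intro K _ g₁ g₂ hg
  let p := g₁ ≫ ν
  have hg' : g₂ ≫ ν = p := hg.symm
  let W := pullback ν p
  let snd : W ⟶ Spec (CommRingCat.of K) := pullback.snd ν p
  haveI : IsIntegralHom snd := MorphismProperty.pullback_snd _ _ ‹IsIntegralHom ν›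
  haveI : IsAffine W := isAffine_of_isAffineHom snd
  let u : pullback g (pullback.fst ν p) ⟶ W := pullback.snd g (pullback.fst ν p)
  haveI : Surjective u := MorphismProperty.pullback_snd _ _ ‹Surjective g›
  have hpb : IsPullback (pullback.fst g (pullback.fst ν p)) (u ≫ snd) (g ≫ ν) p :=
    (IsPullback.of_hasPullback g (pullback.fst ν p)).paste_vert (IsPullback.of_hasPullback ν p)
  haveI : ConnectedSpace ↥(pullback g (pullback.fst ν p)) :=
    GeometricallyConnected.geometrically_connectedSpace _ _ _ hpb
  haveI : PreconnectedSpace ↥W := u.surjective.denseRange.preconnectedSpace u.continuous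
  let w₁ : Spec (CommRingCat.of K) ⟶ W := pullback.lift g₁ (𝟙 _) (by rw [Category.id_comp])
  let w₂ : Spec (CommRingCat.of K) ⟶ W := pullback.lift g₂ (𝟙 _) (by rw [Category.id_comp, hg'])
  suffices h : w₁ = w₂ by
    have := congrArg (· ≫ pullback.fst ν p) h
    simpa [w₁, w₂] using this
  let e := W.isoSpec
  obtain ⟨φ, hφ⟩ := Spec.map_surjective (e.inv ≫ snd)
  obtain ⟨a₁, ha₁⟩ := Spec.map_surjective (w₁ ≫ e.hom)
  obtain ⟨a₂, ha₂⟩ := Spec.map_surjective (w₂ ≫ e.hom)
  let B := Γ(W, ⊤)
  letI : Algebra K B := φ.hom.toAlgebra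
  haveI : IsIntegralHom (Spec.map φ) := hφ ▸ inferInstance
  haveI : Algebra.IsIntegral K B :=
    Algebra.isIntegral_def.2 fun b => (IsIntegralHom.SpecMap_iff.1 ‹IsIntegralHom (Spec.map φ)›) b
  haveI : PreconnectedSpace (PrimeSpectrum B) :=
    (inferInstance : PreconnectedSpace ↥W) |> fun _ =>
      e.hom.surjective.denseRange.preconnectedSpace e.hom.continuous
  have h1 : φ ≫ a₁ = 𝟙 _ := Spec.map_injective (by
    rw [Spec.map_comp, ha₁, hφ, Spec.map_id, Category.assoc, Iso.hom_inv_id_assoc, pullback.lift_snd])
  have h2 : φ ≫ a₂ = 𝟙 _ := Spec.map_injective (by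
    rw [Spec.map_comp, ha₂, hφ, Spec.map_id, Category.assoc, Iso.hom_inv_id_assoc, pullback.lift_snd])
  let s₁ : B →ₐ[K] K := { a₁.hom with commutes' := fun r => congrArg (fun t : CommRingCat.of K ⟶ CommRingCat.of K => t.hom r) h1 }
  let s₂ : B →ₐ[K] K := { a₂.hom with commutes' := fun r => congrArg (fun t : CommRingCat.of K ⟶ CommRingCat.of K => t.hom r) h2 }
  have ha : a₁ = a₂ := CommRingCat.hom_ext (RingHom.ext fun r => DFunLike.congr_fun (sections_eq_of_preconnected s₁ s₂) r)
  rw [← cancel_mono e.hom, ← ha₁, ← ha₂, ha]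

/-- The integral part of a geometrically connected morphism is a universal homeomorphism. -/
theorem isUnivHomeo_of_comp [Surjective g] [IsIntegralHom ν] [GeometricallyConnected (g ≫ ν)] :
    FlatMor.IsUnivHomeo ν := by
  haveI := universallyInjective_of_comp g ν
  haveI : Surjective ν := Surjective.of_comp g ν
  exact (Groth.Agent.S0415.result ν).2 ⟨inferInstance, inferInstance, inferInstance⟩

/-- Geometric connectedness passes along universally injective surjections. -/
theorem geometricallyConnected_comp [GeometricallyConnected g] [UniversallyInjective ν] [Surjective ν] :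
    GeometricallyConnected (g ≫ ν) := by
  refine ⟨fun K _ p P a b H => ?_⟩
  let W := pullback ν p
  haveI : Surjective (pullback.snd ν p) := MorphismProperty.pullback_snd _ _ ‹Surjective ν›
  haveI : UniversallyInjective (pullback.snd ν p) := MorphismProperty.pullback_snd _ _ ‹UniversallyInjective ν›
  haveI : Subsingleton ↥W := (pullback.snd ν p).injective.subsingleton
  obtain ⟨w, -⟩ := (pullback.snd ν p).surjective (IsLocalRing.closedPoint K)
  let ω := W.fromSpecResidueField w
  haveI : Surjective ω := ⟨fun z => ⟨IsLocalRing.closedPoint _, Subsingleton.elim _ _⟩⟩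
  let t := pullback.snd g (pullback.fst ν p)
  haveI : Surjective (pullback.fst t ω) := MorphismProperty.pullback_fst _ _ ‹Surjective ω›
  have hL : IsPullback (pullback.fst t ω ≫ pullback.fst g (pullback.fst ν p)) (pullback.snd t ω) g
      (ω ≫ pullback.fst ν p) :=
    (IsPullback.of_hasPullback t ω).paste_horiz (IsPullback.of_hasPullback g (pullback.fst ν p))
  haveI : ConnectedSpace ↥(pullback t ω) := GeometricallyConnected.geometrically_connectedSpace _ _ _ hL
  haveI : ConnectedSpace ↥(pullback g (pullback.fst ν p)) :=
    (pullback.fst t ω).surjective.connectedSpace (pullback.fst t ω).continuous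
  have hpb : IsPullback (pullback.fst g (pullback.fst ν p)) (t ≫ pullback.snd ν p) (g ≫ ν) p :=
    (IsPullback.of_hasPullback g (pullback.fst ν p)).paste_vert (IsPullback.of_hasPullback ν p)
  let e := hpb.isoPullback ≪≫ H.isoPullback.symm
  exact e.hom.surjective.connectedSpace e.hom.continuous

end Groth.Agent.SteinConn
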