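import Groth.Agent.RigidLib.Group
import Groth.Agent.FpqcDesc.Stalk

/-!
# Geometric reducedness and connectedness via algebraically closed points
-/

set_option autoImplicit false
set_option backward.isDefEq.respectTransparency false
set_option linter.style.haveILetI false
set_option linter.unusedSectionVars false

universe u

open CategoryTheory CategoryTheory.Limits AlgebraicGeometry

noncomputable section

namespace Groth.Agent.SteinConn

variable {X S : Scheme.{u}} (f : X ⟶ S)

theorem exists_flat_surjective_geomPoint (K : Type u) [Field K] (g : Spec (CommRingCat.of K) ⟶ S) :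
    ∃ q : pullback f (Spec.map (CommRingCat.ofHom (algebraMap K (AlgebraicClosure K))) ≫ g) ⟶ pullback f g,
      Flat q ∧ Surjective q := by
  let j := Spec.map (CommRingCat.ofHom (algebraMap K (AlgebraicClosure K)))
  haveI : Flat j := by
    rw [HasRingHomProperty.Spec_iff (P := @Flat)]
    exact RingHom.flat_algebraMap_iff.2 inferInstance
  haveI : Surjective j := ⟨fun x => ⟨IsLocalRing.closedPoint _, Subsingleton.elim (α := PrimeSpectrum K) _ _⟩⟩
  refine ⟨(pullbackLeftPullbackSndIso f g j).inv ≫ pullback.fst _ _, ?_, ?_⟩
  · haveI : Flat (pullback.fst (pullback.snd f g) j) := MorphismProperty.pullback_fst _ _ inferInstance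
    infer_instance
  · haveI : Surjective (pullback.fst (pullback.snd f g) j) := MorphismProperty.pullback_fst _ _ inferInstance
    infer_instance

theorem geometricallyReduced_of_geomPoints
    (h : ∀ (K : Type u) [Field K] [IsAlgClosed K] (g : Spec (CommRingCat.of K) ⟶ S), IsReduced (pullback f g)) :
    GeometricallyReduced f := by
  refine ⟨geometrically_iff_of_isClosedUnderIsomorphisms.2 fun K _ g => ?_⟩
  obtain ⟨q, hq, hq'⟩ := exists_flat_surjective_geomPoint f K g
  haveI := h (AlgebraicClosure K) (Spec.map (CommRingCat.ofHom (algebraMap K (AlgebraicClosure K))) ≫ g)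
  exact FlatDescStalk.isReduced_of_flat_surjective q

theorem geometricallyConnected_of_geomPoints
    (h : ∀ (K : Type u) [Field K] [IsAlgClosed K] (g : Spec (CommRingCat.of K) ⟶ S),
      ConnectedSpace ↥(pullback f g)) :
    GeometricallyConnected f := by
  refine ⟨geometrically_iff_of_isClosedUnderIsomorphisms.2 fun K _ g => ?_⟩
  obtain ⟨q, hq, hq'⟩ := exists_flat_surjective_geomPoint f K g
  haveI := h (AlgebraicClosure K) (Spec.map (CommRingCat.ofHom (algebraMap K (AlgebraicClosure K))) ≫ g)
  exact q.surjective.connectedSpace q.continuous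

end Groth.Agent.SteinConn
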