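import Groth.Agent.SteinConn.General
import Groth.Prelude.Def_MoreMor

/-!
# Geometric connected components through the Stein factorisation
-/

set_option autoImplicit false
set_option backward.isDefEq.respectTransparency false
set_option linter.style.haveILetI false
set_option linter.unusedSectionVars false

universe u

open CategoryTheory CategoryTheory.Limits AlgebraicGeometry TopologicalSpace

noncomputable section

namespace Groth.Agent.SteinConn

/-- The spectrum of an integral algebra over a field is totally disconnected. -/
theorem totallyDisconnected_spectrum (K B : Type u) [Field K] [CommRing B] [Algebra K B] [Algebra.IsIntegral K B] :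
    TotallyDisconnectedSpace (PrimeSpectrum B) := by
  refine ⟨fun P _ hP p hp q hq => PrimeSpectrum.ext (Ideal.ext fun x => ?_)⟩
  let C := Algebra.adjoin K {x}
  haveI : Module.Finite K C := Algebra.finite_adjoin_simple_of_isIntegral (Algebra.IsIntegral.isIntegral x)
  haveI : IsArtinianRing C := IsArtinianRing.of_finite K C
  let π : PrimeSpectrum B → PrimeSpectrum C := PrimeSpectrum.comap C.val.toRingHom
  have hπ : Continuous π := PrimeSpectrum.continuous_comap C.val.toRingHom
  have h := (hP.image π hπ.continuousOn).subsingleton (Set.mem_image_of_mem π hp) (Set.mem_image_of_mem π hq)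
  exact iff_of_eq (congrArg (fun r : PrimeSpectrum C => (⟨x, Algebra.self_mem_adjoin_singleton K x⟩ : C) ∈ r.asIdeal) h)

variable {X S : Scheme.{u}} (f : X ⟶ S) [IsProper f]

theorem nGeomConnComp_eq (s : S) :
    MoreMor.nGeomConnComp f s < ⊤ ∧
      MoreMor.nGeomConnComp f s = MoreMor.nGeomConnComp f.fromNormalization s := by
  classical
  let ν := f.fromNormalization
  let b : Spec (CommRingCat.of (SeparableClosure (S.residueField s))) ⟶ Spec (CommRingCat.of (S.residueField s)) :=
    Spec.map (CommRingCat.ofHom (algebraMap (S.residueField s) (SeparableClosure (S.residueField s))))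
  let W := MoreMor.geomFiber ν s
  let sW : W ⟶ Spec (CommRingCat.of (SeparableClosure (S.residueField s))) := pullback.snd (ν.fiberToSpecResidueField s) b
  let π : W ⟶ f.normalization := pullback.fst (ν.fiberToSpecResidueField s) b ≫ ν.fiberι s
  haveI : IsIntegralHom sW := by
    haveI : IsIntegralHom (ν.fiberToSpecResidueField s) := MorphismProperty.pullback_snd _ _ inferInstance
    exact MorphismProperty.pullback_snd _ _ inferInstance
  haveI : IsAffine W := isAffine_of_isAffineHom sW
  haveI : TotallyDisconnectedSpace ↥W := by
    let e := W.isoSpec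
    obtain ⟨φ, hφ⟩ := Spec.map_surjective (e.inv ≫ sW)
    letI : Algebra (SeparableClosure (S.residueField s)) Γ(W, ⊤) := φ.hom.toAlgebra
    haveI : IsIntegralHom (Spec.map φ) := hφ ▸ inferInstance
    haveI : Algebra.IsIntegral (SeparableClosure (S.residueField s)) Γ(W, ⊤) :=
      Algebra.isIntegral_def.2 fun z => (IsIntegralHom.SpecMap_iff.1 ‹IsIntegralHom (Spec.map φ)›) z
    haveI : TotallyDisconnectedSpace ↥(Spec Γ(W, ⊤)) := totallyDisconnected_spectrum (SeparableClosure (S.residueField s)) Γ(W, ⊤)
    exact ⟨fun P _ hP p hp q hq => e.hom.isOpenEmbedding.injective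
      ((hP.image e.hom e.hom.continuous.continuousOn).subsingleton (Set.mem_image_of_mem _ hp)
        (Set.mem_image_of_mem _ hq))⟩
  haveI := geometricallyConnected_toNormalization' f
  let u := pullback.snd f.toNormalization π
  haveI : IsProper u := MorphismProperty.pullback_snd _ _ inferInstance
  have hW : IsPullback π sW ν (b ≫ S.fromSpecResidueField s) :=
    ((IsPullback.of_hasPullback (ν.fiberToSpecResidueField s) b)).paste_horiz
      (IsPullback.of_hasPullback ν (S.fromSpecResidueField s))
  have h1 := (IsPullback.of_hasPullback f.toNormalization π).paste_vert hW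
  rw [f.toNormalization_fromNormalization] at h1
  have h2 : IsPullback (pullback.fst (f.fiberToSpecResidueField s) b ≫ f.fiberι s)
      (pullback.snd (f.fiberToSpecResidueField s) b) f (b ≫ S.fromSpecResidueField s) :=
    (IsPullback.of_hasPullback (f.fiberToSpecResidueField s) b).paste_horiz
      (IsPullback.of_hasPullback f (S.fromSpecResidueField s))
  let e : MoreMor.geomFiber f s ≅ pullback f.toNormalization π := h2.isoPullback ≪≫ h1.isoPullback.symm
  let v : MoreMor.geomFiber f s ⟶ W := e.hom ≫ u
  haveI : GeometricallyConnected v := (MorphismProperty.cancel_left_of_respectsIso @GeometricallyConnected e.hom u).2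
    (MorphismProperty.pullback_snd _ _ ‹GeometricallyConnected f.toNormalization›)
  haveI : IsProper v := inferInstance
  haveI : IsLocallyNoetherian (MoreMor.geomFiber f s) := by
    haveI : IsProper (pullback.snd (f.fiberToSpecResidueField s) b) := MorphismProperty.pullback_snd _ _
      (MorphismProperty.pullback_snd _ _ ‹IsProper f›)
    exact LocallyOfFiniteType.isLocallyNoetherian (pullback.snd (f.fiberToSpecResidueField s) b)
  haveI : CompactSpace ↥(MoreMor.geomFiber f s) := QuasiCompact.compactSpace_of_compactSpace v
  haveI : IsNoetherian (MoreMor.geomFiber f s) := {}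
  let φ := _root_.ConnectedComponents.mk (α := ↥(MoreMor.geomFiber f s))
  have hcomp : ∀ x y, v x = v y ↔ φ x = φ y := fun x y => by
    refine ⟨fun h => ConnectedComponents.coe_eq_coe'.2 ?_, fun h => ?_⟩
    · exact (v.isConnected_preimage_singleton (v y)).2.subset_connectedComponent rfl h
    · exact (isPreconnected_connectedComponent.image v v.continuous.continuousOn).subsingleton
        ⟨x, ConnectedComponents.coe_eq_coe'.1 h, rfl⟩ ⟨y, mem_connectedComponent, rfl⟩
  haveI : Finite ↥W := by
    have hsub : ∀ z ∈ irreducibleComponents ↥(MoreMor.geomFiber f s), (v '' z).Subsingleton := fun z hz =>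
      (hz.1.image v v.continuous.continuousOn).2.isPreconnected.subsingleton
    refine Set.finite_univ_iff.1 (((NoetherianSpace.finite_irreducibleComponents
      (α := ↥(MoreMor.geomFiber f s))).biUnion fun z hz => (hsub z hz).finite).subset fun w _ => ?_)
    obtain ⟨x, rfl⟩ := v.surjective w
    exact Set.mem_iUnion₂.2 ⟨irreducibleComponent x, irreducibleComponent_mem_irreducibleComponents x,
      x, mem_irreducibleComponent, rfl⟩
  let e1 : _root_.ConnectedComponents ↥(MoreMor.geomFiber f s) ≃ ↥W :=
    Equiv.ofBijective (Quotient.lift (fun x => v x) fun x y h => (hcomp x y).2 (Quotient.sound h))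
      ⟨by rintro ⟨x⟩ ⟨y⟩ h; exact (hcomp x y).1 h, fun w => by
        obtain ⟨x, hx⟩ := v.surjective w
        exact ⟨φ x, hx⟩⟩
  let e2 : _root_.ConnectedComponents ↥W ≃ ↥W :=
    Equiv.ofBijective (Quotient.lift id fun x y h => by
        have hy : y ∈ connectedComponent x := h ▸ mem_connectedComponent
        rw [connectedComponent_eq_singleton] at hy
        exact hy.symm)
      ⟨by rintro ⟨x⟩ ⟨y⟩ h; exact congrArg _ h, fun w => ⟨ConnectedComponents.mk w, rfl⟩⟩
  haveI : Finite (_root_.ConnectedComponents ↥(MoreMor.geomFiber f s)) := Finite.of_equiv _ e1.symm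
  exact ⟨ENat.card_lt_top.2 inferInstance, ENat.card_congr (e1.trans e2.symm)⟩

end Groth.Agent.SteinConn
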