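import Groth.Agent.SteinConn.Apply

/-!
# Fibres over normal points
-/

set_option autoImplicit false
set_option backward.isDefEq.respectTransparency false
set_option linter.style.haveILetI false
set_option linter.unusedSectionVars false

universe u

open CategoryTheory CategoryTheory.Limits AlgebraicGeometry TopologicalSpace

noncomputable section

namespace Groth.Agent.SteinConn

variable {X Y : Scheme.{u}} [IsIntegral X] [IsIntegral Y] [IsLocallyNoetherian Y] (f : X ⟶ Y) [IsProper f]
  (hdom : f.base (genericPoint X) ⤳ genericPoint Y)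
  (halg : ∀ x : X.functionField,
    (∃ q : Polynomial Y.functionField, q ≠ 0 ∧
      Polynomial.eval₂ (CohIII.stalkToFunctionField f (genericPoint Y) hdom) x q = 0) →
    x ∈ Set.range (CohIII.stalkToFunctionField f (genericPoint Y) hdom))

include hdom

theorem stalkToFunctionField_injective (y : Y) (h : f.base (genericPoint X) ⤳ y) :
    Function.Injective (CohIII.stalkToFunctionField f y h) := by
  rw [stalkToFunctionField_factor f hdom y h, RingHom.coe_comp]
  exact (CohIII.stalkToFunctionField f (genericPoint Y) hdom).injective.comp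
    (IsFractionRing.injective (Y.presheaf.stalk y) Y.functionField)

include halg

theorem mem_range_of_isIntegral (y : Y) (h : f.base (genericPoint X) ⤳ y)
    (hy : IsIntegrallyClosed (Y.presheaf.stalk y)) {x : X.functionField}
    (hx : (CohIII.stalkToFunctionField f y h).IsIntegralElem x) :
    x ∈ Set.range (CohIII.stalkToFunctionField f y h) := by
  let K : Type u := Y.functionField
  letI : Algebra K X.functionField := (CohIII.stalkToFunctionField f (genericPoint Y) hdom).toAlgebra
  letI : Algebra (Y.presheaf.stalk y) X.functionField := (CohIII.stalkToFunctionField f y h).toAlgebra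
  haveI : IsScalarTower (Y.presheaf.stalk y) K X.functionField :=
    IsScalarTower.of_algebraMap_eq' (stalkToFunctionField_factor f hdom y h)
  have hx' : IsIntegral (Y.presheaf.stalk y) x := hx
  obtain ⟨q, hq, hqx⟩ := (hx'.tower_top : IsIntegral K x)
  obtain ⟨k, hk⟩ := halg x ⟨q, hq.ne_zero, hqx⟩
  have hk' : IsIntegral (Y.presheaf.stalk y) k :=
    (isIntegral_algHom_iff (IsScalarTower.toAlgHom (Y.presheaf.stalk y) K X.functionField)
      (algebraMap K X.functionField).injective).1
      (show IsIntegral (Y.presheaf.stalk y) (algebraMap K X.functionField k) from hk ▸ hx')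
  obtain ⟨a, rfl⟩ := IsIntegrallyClosed.isIntegral_iff.1 hk'
  exact ⟨a, by rw [stalkToFunctionField_factor f hdom y h]; exact hk⟩

/-- The finite part of the Stein factorisation is an isomorphism near a normal point. -/
theorem exists_isIso_fromNormalization (y : Y) (hy : IsIntegrallyClosed (Y.presheaf.stalk y)) :
    ∃ U : Y.Opens, y ∈ U ∧ IsIso (f.fromNormalization ∣_ U) := by
  classical
  obtain ⟨_, ⟨V, hV : IsAffineOpen V, rfl⟩, hyV, -⟩ :=
    Y.isBasis_affineOpens.exists_subset_of_mem_open (Set.mem_univ y) isOpen_univ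
  haveI := S1297.result f
  let ν := f.fromNormalization
  have h : f.base (genericPoint X) ⤳ y := hdom.trans (genericPoint_specializes y)
  -- evaluation in the function field
  have hη : ∀ V' : Y.Opens, y ∈ V' → genericPoint X ∈ f.toNormalization ⁻¹ᵁ (ν ⁻¹ᵁ V') := fun V' hy' => by
    show ν (f.toNormalization (genericPoint X)) ∈ V'
    rw [← Scheme.Hom.comp_apply, f.toNormalization_fromNormalization]
    exact h.mem_open V'.2 hy'
  let ε : ∀ (V' : Y.Opens) (hy' : y ∈ V'), Γ(f.normalization, ν ⁻¹ᵁ V') →+* X.functionField := fun V' hy' =>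
    ((X.presheaf.germ (f.toNormalization ⁻¹ᵁ (ν ⁻¹ᵁ V')) (genericPoint X) (hη V' hy')).hom).comp
      (f.toNormalization.app (ν ⁻¹ᵁ V')).hom
  have hε : ∀ (V' : Y.Opens) (hy' : y ∈ V') (r : Γ(Y, V')),
      ε V' hy' ((ν.app V').hom r) = CohIII.stalkToFunctionField f y h ((Y.presheaf.germ V' y hy').hom r) :=
    fun V' hy' r => by
    rw [stalkToFunctionField_germ f y h V' hy' r]
    show (X.presheaf.germ _ (genericPoint X) (hη V' hy')).hom
        ((f.toNormalization.app (ν ⁻¹ᵁ V')).hom ((ν.app V').hom r)) = _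
    rw [← CommRingCat.comp_apply (ν.app V'), ← Scheme.Hom.comp_app]
    have key : ∀ (g : X ⟶ Y) (h₁ : genericPoint X ∈ g ⁻¹ᵁ V') (h₂ : genericPoint X ∈ f ⁻¹ᵁ V'), g = f →
        (X.presheaf.germ (g ⁻¹ᵁ V') (genericPoint X) h₁).hom ((g.app V').hom r) =
        (X.presheaf.germ (f ⁻¹ᵁ V') (genericPoint X) h₂).hom ((f.app V').hom r) := by
      rintro g h₁ h₂ rfl
      rfl
    exact key _ (hη V' hy') _ f.toNormalization_fromNormalization
  have hεinj : ∀ (V' : Y.Opens) (hy' : y ∈ V'), IsAffineOpen V' → Function.Injective (ε V' hy') :=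
    fun V' hy' hV' a b hab => injective_toNormalization_app f (hV'.preimage ν)
      (@germ_injective_of_isIntegral X _ _ (genericPoint X) (hη V' hy') _ _ hab)
  have hinj : ∀ (V' : Y.Opens), y ∈ V' → IsAffineOpen V' → Function.Injective (ν.app V').hom :=
    fun V' hy' _ a b hab => by
    have h1 := congrArg (ε V' hy') hab
    rw [hε V' hy', hε V' hy'] at h1
    exact @germ_injective_of_isIntegral Y _ _ y hy' _ _ (stalkToFunctionField_injective f hdom y h h1)
  -- clearing denominators
  let p := hV.primeIdealOf ⟨y, hyV⟩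
  letI : Algebra Γ(Y, V) (Y.presheaf.stalk y) := (Y.presheaf.germ V y hyV).hom.toAlgebra
  haveI : IsLocalization.AtPrime (Y.presheaf.stalk y) p.asIdeal := hV.isLocalization_stalk ⟨y, hyV⟩
  letI algW : Algebra Γ(Y, V) Γ(f.normalization, ν ⁻¹ᵁ V) := (ν.app V).hom.toAlgebra
  haveI : Module.Finite Γ(Y, V) Γ(f.normalization, ν ⁻¹ᵁ V) := ν.finite_app V hV
  have hone : ∀ b : Γ(f.normalization, ν ⁻¹ᵁ V), ∃ s : p.asIdeal.primeCompl, ∃ r : Γ(Y, V),
      (ν.app V).hom s * b = (ν.app V).hom r := fun b => by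
    have hb : (CohIII.stalkToFunctionField f y h).IsIntegralElem (ε V hyV b) := by
      letI : Algebra Γ(Y, V) X.functionField :=
        ((CohIII.stalkToFunctionField f y h).comp (Y.presheaf.germ V y hyV).hom).toAlgebra
      letI : Algebra (Y.presheaf.stalk y) X.functionField := (CohIII.stalkToFunctionField f y h).toAlgebra
      haveI : IsScalarTower Γ(Y, V) (Y.presheaf.stalk y) X.functionField := IsScalarTower.of_algebraMap_eq' rfl
      have h1 : IsIntegral Γ(Y, V) (ε V hyV b) :=
        IsIntegral.map ({ ε V hyV with commutes' := hε V hyV } :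
          Γ(f.normalization, ν ⁻¹ᵁ V) →ₐ[Γ(Y, V)] X.functionField)
          (show IsIntegral Γ(Y, V) b from ν.isIntegral_app V hV b)
      exact h1.tower_top
    obtain ⟨a, ha⟩ := mem_range_of_isIntegral f hdom halg y h hy hb
    obtain ⟨⟨r, s⟩, hrs⟩ := IsLocalization.surj p.asIdeal.primeCompl a
    refine ⟨s, r, hεinj V hyV hV ?_⟩
    rw [map_mul, hε V hyV, hε V hyV, ← ha, ← map_mul, _root_.mul_comm]
    exact congrArg _ hrs
  obtain ⟨T, hT⟩ : (⊤ : Submodule Γ(Y, V) Γ(f.normalization, ν ⁻¹ᵁ V)).FG := Module.Finite.fg_top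
  choose s r hsr using hone
  let s₀ : p.asIdeal.primeCompl := ∏ b ∈ T, s b
  have hall : ∀ b, ∃ r' : Γ(Y, V), (ν.app V).hom s₀ * b = (ν.app V).hom r' := fun b => by
    have hb : b ∈ Submodule.span Γ(Y, V) (T : Set Γ(f.normalization, ν ⁻¹ᵁ V)) := hT ▸ Submodule.mem_top
    induction hb using Submodule.span_induction with
    | mem c hc =>
      refine ⟨(∏ x ∈ T.erase c, s x : p.asIdeal.primeCompl) * r c, ?_⟩
      rw [show s₀ = (∏ x ∈ T.erase c, s x) * s c from (Finset.prod_erase_mul T s hc).symm,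
        Submonoid.coe_mul, map_mul, map_mul, _root_.mul_assoc, hsr]
    | zero => exact ⟨0, by rw [mul_zero, map_zero]⟩
    | add c d _ _ ihc ihd =>
      obtain ⟨r₁, h₁⟩ := ihc
      obtain ⟨r₂, h₂⟩ := ihd
      exact ⟨r₁ + r₂, by rw [mul_add, h₁, h₂, map_add]⟩
    | smul a c _ ih =>
      obtain ⟨r₁, h₁⟩ := ih
      refine ⟨a * r₁, ?_⟩
      rw [map_mul, ← h₁, Algebra.smul_def]
      exact mul_left_comm _ _ _
  let U := Y.basicOpen (s₀ : Γ(Y, V))
  have hyU : y ∈ U := by
    rw [Y.mem_basicOpen _ y hyV]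
    exact IsLocalization.map_units (Y.presheaf.stalk y) s₀
  have hU : IsAffineOpen U := hV.basicOpen _
  refine ⟨U, hyU, (isIso_morphismRestrict_iff_isIso_app ν hU).2 ((ConcreteCategory.isIso_iff_bijective _).2
    ⟨hinj U hyU hU, fun c => ?_⟩)⟩
  -- surjectivity
  let res := (f.normalization.presheaf.map (homOfLE (ν.preimage_mono (Y.basicOpen_le (s₀ : Γ(Y, V))))).op).hom
  have hpre : ν ⁻¹ᵁ U = f.normalization.basicOpen ((ν.app V).hom (s₀ : Γ(Y, V))) := ν.preimage_basicOpen _
  letI : Algebra Γ(f.normalization, ν ⁻¹ᵁ V) Γ(f.normalization, ν ⁻¹ᵁ U) := res.toAlgebra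
  haveI : IsLocalization.Away ((ν.app V).hom (s₀ : Γ(Y, V))) Γ(f.normalization, ν ⁻¹ᵁ U) :=
    (hV.preimage ν).isLocalization_of_eq_basicOpen _ (homOfLE (ν.preimage_mono (Y.basicOpen_le (s₀ : Γ(Y, V))))) hpre
  have hnat : ∀ a : Γ(Y, V), res ((ν.app V).hom a) =
      (ν.app U).hom ((Y.presheaf.map (homOfLE (Y.basicOpen_le (s₀ : Γ(Y, V)))).op).hom a) := fun a =>
    (congrArg (fun t => t.hom a) (ν.naturality (homOfLE (Y.basicOpen_le (s₀ : Γ(Y, V)))).op)).symm
  obtain ⟨⟨b, ⟨_, m, rfl⟩⟩, hbm⟩ := IsLocalization.surj (Submonoid.powers ((ν.app V).hom (s₀ : Γ(Y, V)))) c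
  obtain ⟨r', hr'⟩ := hall b
  have hu : IsUnit ((Y.presheaf.map (homOfLE (Y.basicOpen_le (s₀ : Γ(Y, V)))).op).hom (s₀ : Γ(Y, V))) :=
    RingedSpace.isUnit_res_basicOpen _ _
  obtain ⟨v, hv⟩ := (hu.pow (m + 1))
  refine ⟨(↑v⁻¹ : Γ(Y, U)) * (Y.presheaf.map (homOfLE (Y.basicOpen_le (s₀ : Γ(Y, V)))).op).hom r', ?_⟩
  have e1 : (ν.app U).hom (v : Γ(Y, U)) * c =
      (ν.app U).hom ((Y.presheaf.map (homOfLE (Y.basicOpen_le (s₀ : Γ(Y, V)))).op).hom r') := by
    rw [hv, map_pow, ← hnat, ← hnat, ← hr', map_mul, pow_succ', _root_.mul_assoc]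
    refine congrArg _ ?_
    have h2 : c * res ((ν.app V).hom (s₀ : Γ(Y, V)) ^ m) = res b := hbm
    rw [← h2, map_pow]
    exact _root_.mul_comm _ _
  calc (ν.app U).hom ((↑v⁻¹ : Γ(Y, U)) * (Y.presheaf.map (homOfLE (Y.basicOpen_le (s₀ : Γ(Y, V)))).op).hom r')
      = (ν.app U).hom (↑v⁻¹ : Γ(Y, U)) * ((ν.app U).hom (v : Γ(Y, U)) * c) := by rw [map_mul, e1]
    _ = c := by rw [← _root_.mul_assoc, ← map_mul, Units.inv_mul, map_one, _root_.one_mul]

/-- Over a normal point with algebraically closed function field extension, the fibre is geometrically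
connected and functions descend nearby. -/
theorem geometricallyConnected_and_bijApp (y : Y) (hy : IsIntegrallyClosed (Y.presheaf.stalk y)) :
    GeometricallyConnected (f.fiberToSpecResidueField y) ∧
      ∃ U : Y.Opens, y ∈ U ∧ ∀ V : Y.Opens, V ≤ U → IsIso (f.app V) := by
  obtain ⟨U, hyU, hiso⟩ := exists_isIso_fromNormalization f hdom halg y hy
  have key : ∀ V : Y.Opens, V ≤ U → IsIso (f.app V) := fun V hVU => by
    haveI : IsIso (f.fromNormalization ∣_ V) := (by
      have h1 := (MorphismProperty.isomorphisms Scheme).arrow_mk_iso_iff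
        (morphismRestrictRestrict f.fromNormalization U (U.ι ⁻¹ᵁ V))
      have e : U.ι ''ᵁ (U.ι ⁻¹ᵁ V) = V := by
        rw [U.ι.image_preimage_eq_opensRange_inf, Scheme.Opens.opensRange_ι]
        exact inf_eq_right.2 hVU
      haveI : IsIso (f.fromNormalization ∣_ U ∣_ U.ι ⁻¹ᵁ V) := inferInstance
      rw [← e]
      exact h1.1 this)
    haveI : IsIso (f.fromNormalization.app V) := by
      have h2 : IsIso ((f.fromNormalization ∣_ V).app ⊤) := inferInstance
      rw [morphismRestrict_app] at h2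
      have h3 : IsIso (f.fromNormalization.app (V.ι ''ᵁ ⊤)) := (isIso_comp_right_iff _ _).1 h2
      rwa [Scheme.Opens.ι_image_top] at h3
    haveI := NormalizationLemmas.isIso_toNormalization_app f (f.fromNormalization ⁻¹ᵁ V)
    have e : IsIso ((f.toNormalization ≫ f.fromNormalization).app V) := by
      rw [Scheme.Hom.comp_app]; infer_instance
    have : ∀ g : X ⟶ Y, g = f → IsIso (g.app V) → IsIso (f.app V) := by rintro g rfl h; exact h
    exact this _ f.toNormalization_fromNormalization e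
  refine ⟨?_, U, hyU, key⟩
  haveI : GeometricallyConnected (f ∣_ U) := geometricallyConnected _ fun V => by
    rw [morphismRestrict_app, CommRingCat.hom_comp, RingHom.coe_comp]
    haveI := key (U.ι ''ᵁ V) (U.ι.image_le_opensRange V |>.trans U.opensRange_ι.le)
    exact (ConcreteCategory.bijective_of_isIso _).comp (ConcreteCategory.bijective_of_isIso _)
  have hl : Set.range (Y.fromSpecResidueField y) ⊆ Set.range U.ι := by
    rw [Scheme.range_fromSpecResidueField, Scheme.Opens.range_ι]
    exact Set.singleton_subset_iff.2 hyU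
  let l := IsOpenImmersion.lift U.ι (Y.fromSpecResidueField y) hl
  have hlι : l ≫ U.ι = Y.fromSpecResidueField y := IsOpenImmersion.lift_fac _ _ _
  have hk : Set.range (f.fiberι y) ⊆ Set.range (f ⁻¹ᵁ U).ι := by
    rw [f.range_fiberι, Scheme.Opens.range_ι]
    exact fun x hx => show f x ∈ U from (show f x = y from hx) ▸ hyU
  let k := IsOpenImmersion.lift (f ⁻¹ᵁ U).ι (f.fiberι y) hk
  have hkι : k ≫ (f ⁻¹ᵁ U).ι = f.fiberι y := IsOpenImmersion.lift_fac _ _ _
  have hsq : IsPullback k (f.fiberToSpecResidueField y) (f ∣_ U) l := by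
    refine IsPullback.of_right ?_ ?_ (isPullback_morphismRestrict f U).flip
    · rw [hkι, hlι]; exact IsPullback.of_hasPullback f (Y.fromSpecResidueField y)
    · rw [← cancel_mono U.ι, Category.assoc, Category.assoc, hlι, morphismRestrict_ι, ← Category.assoc, hkι]
      exact f.fiber_fac y
  exact MorphismProperty.of_isPullback hsq inferInstance

end Groth.Agent.SteinConn
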