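import Groth.Agent.SteinConn.Stein
import Groth.Prelude.Def_ega3

/-!
# Components of fibres and maximal ideals of integral closures
-/

set_option autoImplicit false
set_option backward.isDefEq.respectTransparency false
set_option linter.style.haveILetI false
set_option linter.unusedSectionVars false

universe u

open CategoryTheory CategoryTheory.Limits AlgebraicGeometry TopologicalSpace Opposite

noncomputable section

namespace Groth.Agent.SteinConn

variable {X Y : Scheme.{u}} [IsIntegral X] (f : X ⟶ Y) [IsProper f]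

theorem stalkToFunctionField_germ (y : Y) (h : f.base (genericPoint X) ⤳ y) (V : Y.Opens) (hy : y ∈ V)
    (r : Γ(Y, V)) :
    CohIII.stalkToFunctionField f y h ((Y.presheaf.germ V y hy).hom r) =
      (X.presheaf.germ (f ⁻¹ᵁ V) (genericPoint X) (h.mem_open V.2 hy)).hom ((f.app V).hom r) := by
  show (f.stalkMap _).hom ((Y.presheaf.stalkSpecializes h).hom ((Y.presheaf.germ V y hy).hom r)) = _
  exact (congrArg (f.stalkMap _).hom (Y.presheaf.germ_stalkSpecializes_apply hy h r)).trans
    (Scheme.Hom.germ_stalkMap_apply f V (genericPoint X) (h.mem_open V.2 hy) r)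

theorem injective_toNormalization_app {W : f.normalization.Opens} (hW : IsAffineOpen W) :
    Function.Injective (f.toNormalization.app W).hom := by
  have h : (f.toNormalization.ker.ideal ⟨W, hW⟩) = ⊥ := by rw [f.ker_toNormalization]; rfl
  rw [Scheme.Hom.ker_apply] at h
  exact (RingHom.injective_iff_ker_eq_bot _).2 h

/-- Maximal ideals of the integral closure of a local ring in the function field cover the fibre of the
finite part of the Stein factorisation. -/
theorem exists_surjective_fiber (y : Y) (h : f.base (genericPoint X) ⤳ y) :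
    ∃ σ : MaximalSpectrum ↥(CohIII.integralClosureStalk f y h) → ↥(f.fromNormalization.fiber y),
      Function.Surjective σ := by
  obtain ⟨_, ⟨V, hV : IsAffineOpen V, rfl⟩, hy, -⟩ :=
    Y.isBasis_affineOpens.exists_subset_of_mem_open (Set.mem_univ y) isOpen_univ
  let ν := f.fromNormalization
  let W := ν ⁻¹ᵁ V
  have hW : IsAffineOpen W := hV.preimage ν
  let p := hV.primeIdealOf ⟨y, hy⟩
  letI algRA : Algebra Γ(Y, V) (Y.presheaf.stalk y) := (Y.presheaf.germ V y hy).hom.toAlgebra
  haveI : IsLocalization.AtPrime (Y.presheaf.stalk y) p.asIdeal := hV.isLocalization_stalk ⟨y, hy⟩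
  letI algAK : Algebra (Y.presheaf.stalk y) X.functionField := (CohIII.stalkToFunctionField f y h).toAlgebra
  letI algRK : Algebra Γ(Y, V) X.functionField :=
    ((CohIII.stalkToFunctionField f y h).comp (Y.presheaf.germ V y hy).hom).toAlgebra
  haveI : IsScalarTower Γ(Y, V) (Y.presheaf.stalk y) X.functionField := IsScalarTower.of_algebraMap_eq' rfl
  haveI : IsLocalization (Algebra.algebraMapSubmonoid X.functionField p.asIdeal.primeCompl) X.functionField := by
    refine IsLocalization.self ?_
    rintro _ ⟨r, hr, rfl⟩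
    show IsUnit (algebraMap Γ(Y, V) X.functionField r)
    rw [IsScalarTower.algebraMap_apply Γ(Y, V) (Y.presheaf.stalk y)]
    exact (IsLocalization.map_units (Y.presheaf.stalk y) (⟨r, hr⟩ : p.asIdeal.primeCompl)).map _
  let D := integralClosure Γ(Y, V) X.functionField
  let C := integralClosure (Y.presheaf.stalk y) X.functionField
  letI algDC : Algebra D C :=
    ((D.val.toRingHom).codRestrict C.toSubring fun x => IsIntegral.tower_top x.2).toAlgebra
  haveI : IsScalarTower D C X.functionField := IsScalarTower.of_algebraMap_eq' rfl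
  haveI : IsScalarTower Γ(Y, V) D C := IsScalarTower.of_algebraMap_eq fun _ =>
    Subtype.ext (IsScalarTower.algebraMap_apply Γ(Y, V) (Y.presheaf.stalk y) X.functionField _).symm
  haveI hloc : IsLocalization (Algebra.algebraMapSubmonoid D p.asIdeal.primeCompl) C :=
    IsLocalization.integralClosure (S := X.functionField) (Rf := Y.presheaf.stalk y) (Sf := X.functionField)
      p.asIdeal.primeCompl
  -- sections of the finite part as integral elements of the function field
  have hη : genericPoint X ∈ f.toNormalization ⁻¹ᵁ W := by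
    show ν (f.toNormalization (genericPoint X)) ∈ V
    rw [← Scheme.Hom.comp_apply, f.toNormalization_fromNormalization]
    exact h.mem_open V.2 hy
  let ε₀ : Γ(f.normalization, W) →+* X.functionField :=
    ((X.presheaf.germ (f.toNormalization ⁻¹ᵁ W) (genericPoint X) hη).hom).comp (f.toNormalization.app W).hom
  have hε₀ : ∀ r, ε₀ ((ν.app V).hom r) = algebraMap Γ(Y, V) X.functionField r := fun r => by
    show _ = CohIII.stalkToFunctionField f y h ((Y.presheaf.germ V y hy).hom r)
    rw [stalkToFunctionField_germ f y h V hy r]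
    show (X.presheaf.germ (f.toNormalization ⁻¹ᵁ W) (genericPoint X) hη).hom
        ((f.toNormalization.app W).hom ((ν.app V).hom r)) = _
    rw [← CommRingCat.comp_apply (ν.app V), ← Scheme.Hom.comp_app]
    have key : ∀ (g : X ⟶ Y) (h₁ : genericPoint X ∈ g ⁻¹ᵁ V) (h₂ : genericPoint X ∈ f ⁻¹ᵁ V), g = f →
        (X.presheaf.germ (g ⁻¹ᵁ V) (genericPoint X) h₁).hom ((g.app V).hom r) =
        (X.presheaf.germ (f ⁻¹ᵁ V) (genericPoint X) h₂).hom ((f.app V).hom r) := by
      rintro g h₁ h₂ rfl
      rfl
    exact key _ hη _ f.toNormalization_fromNormalization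
  let ε : Γ(f.normalization, W) →+* D := ε₀.codRestrict D.toSubring fun b => by
    letI : Algebra Γ(Y, V) Γ(f.normalization, W) := (ν.app V).hom.toAlgebra
    exact IsIntegral.map ({ ε₀ with commutes' := hε₀ } : Γ(f.normalization, W) →ₐ[Γ(Y, V)] X.functionField)
      (show IsIntegral Γ(Y, V) b from ν.isIntegral_app V hV b)
  have hεinj : Function.Injective ε := fun a b hab => injective_toNormalization_app f hW
    (@germ_injective_of_isIntegral X _ _ (genericPoint X) hη _ _ (congrArg Subtype.val hab))
  letI : Algebra Γ(f.normalization, W) D := ε.toAlgebra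
  haveI : Algebra.IsIntegral Γ(f.normalization, W) D := by
    letI : Algebra Γ(Y, V) Γ(f.normalization, W) := (ν.app V).hom.toAlgebra
    haveI : IsScalarTower Γ(Y, V) Γ(f.normalization, W) D :=
      IsScalarTower.of_algebraMap_eq fun r => Subtype.ext (hε₀ r).symm
    exact ⟨fun x => (Algebra.IsIntegral.isIntegral (R := Γ(Y, V)) x).tower_top⟩
  have hfs : ∀ q : PrimeSpectrum Γ(f.normalization, W),
      ν (hW.fromSpec q) = hV.fromSpec (PrimeSpectrum.comap (ν.app V).hom q) := fun q => by
    have e := IsAffineOpen.SpecMap_appLE_fromSpec ν hV hW le_rfl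
    rw [Scheme.Hom.appLE_eq_app] at e
    exact (congrArg (fun t : Spec Γ(f.normalization, W) ⟶ Y => t q) e).symm
  have hover : ∀ P : Ideal D, ∀ q : PrimeSpectrum Γ(f.normalization, W), q.asIdeal = P.comap ε →
      (PrimeSpectrum.comap (ν.app V).hom q).asIdeal = P.comap (algebraMap Γ(Y, V) D) := fun P q hq => by
    rw [PrimeSpectrum.comap_asIdeal, hq, Ideal.comap_comap]
    congr 1
    exact RingHom.ext fun r => Subtype.ext (hε₀ r)
  let pt : MaximalSpectrum C → ↥(f.normalization) := fun M =>
    haveI := M.isMaximal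
    hW.fromSpec (⟨(M.asIdeal.comap (algebraMap D C)).comap ε, inferInstance⟩ : PrimeSpectrum _)
  have hpt : ∀ M, ν (pt M) = y := fun M => by
    haveI := M.isMaximal
    show ν (hW.fromSpec _) = y
    rw [hfs]
    refine Eq.trans (congrArg _ (PrimeSpectrum.ext ?_)) (hV.fromSpec_primeIdealOf ⟨y, hy⟩)
    rw [hover _ _ rfl, Ideal.comap_comap, ← IsScalarTower.algebraMap_eq,
      IsScalarTower.algebraMap_eq Γ(Y, V) (Y.presheaf.stalk y) C, ← Ideal.comap_comap,
      IsLocalRing.eq_maximalIdeal (Ideal.isMaximal_comap_of_isIntegral_of_isMaximal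
        (R := Y.presheaf.stalk y) M.asIdeal)]
    exact IsLocalization.AtPrime.under_maximalIdeal (Y.presheaf.stalk y) p.asIdeal
  refine ⟨fun M => ((ν.fiberHomeo y).symm ⟨pt M, hpt M⟩), ?_⟩
  refine (ν.fiberHomeo y).symm.surjective.comp fun ⟨z, hz⟩ => ?_
  have hz' : ν z = y := hz
  have hzW : z ∈ W := show ν z ∈ V by rw [hz']; exact hy
  let q := hW.primeIdealOf ⟨z, hzW⟩
  obtain ⟨P, -, hP, hPq⟩ := Ideal.exists_ideal_over_prime_of_isIntegral q.asIdeal (⊥ : Ideal D) (by
    rw [← RingHom.ker_eq_comap_bot, (RingHom.injective_iff_ker_eq_bot _).1 (show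
      Function.Injective (algebraMap Γ(f.normalization, W) D) from hεinj)]
    exact bot_le)
  have hPp : P.comap (algebraMap Γ(Y, V) D) = p.asIdeal := by
    rw [← hover P q hPq.symm]
    refine congrArg PrimeSpectrum.asIdeal (hV.fromSpec.isOpenEmbedding.injective ?_)
    rw [← hfs, hW.fromSpec_primeIdealOf ⟨z, hzW⟩, hV.fromSpec_primeIdealOf ⟨y, hy⟩]
    exact hz'
  have hdisj : Disjoint (Algebra.algebraMapSubmonoid D p.asIdeal.primeCompl : Set D) (P : Set D) := by
    rw [Set.disjoint_left]
    rintro _ ⟨r, hr, rfl⟩ hr'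
    exact hr (hPp ▸ hr')
  have hQ := IsLocalization.isPrime_of_isPrime_disjoint _ C P hP hdisj
  have hQP := IsLocalization.under_map_of_isPrime_disjoint _ C hP hdisj
  have hQmax : (P.map (algebraMap D C)).IsMaximal := by
    refine Ideal.isMaximal_of_isIntegral_of_isMaximal_comap (R := Y.presheaf.stalk y) _ ?_
    haveI := hQ
    have h1 : (((P.map (algebraMap D C)).comap (algebraMap (Y.presheaf.stalk y) C)).comap
        (algebraMap Γ(Y, V) (Y.presheaf.stalk y))) = p.asIdeal := by
      rw [Ideal.comap_comap, ← IsScalarTower.algebraMap_eq, IsScalarTower.algebraMap_eq Γ(Y, V) D C,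
        ← Ideal.comap_comap]
      rw [show (P.map (algebraMap D C)).comap (algebraMap D C) = P from hQP, hPp]
    rw [← IsLocalization.map_comap p.asIdeal.primeCompl (Y.presheaf.stalk y)
      ((P.map (algebraMap D C)).comap (algebraMap (Y.presheaf.stalk y) C)), Ideal.under_def, h1,
      IsLocalization.AtPrime.map_eq_maximalIdeal p.asIdeal (Y.presheaf.stalk y)]
    infer_instance
  refine ⟨⟨P.map (algebraMap D C), hQmax⟩, Subtype.ext ?_⟩
  show hW.fromSpec _ = z
  refine Eq.trans (congrArg _ (PrimeSpectrum.ext ?_)) (hW.fromSpec_primeIdealOf ⟨z, hzW⟩)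
  show ((P.map (algebraMap D C)).comap (algebraMap D C)).comap ε = q.asIdeal
  rw [show (P.map (algebraMap D C)).comap (algebraMap D C) = P from hQP]
  exact hPq

variable [IsLocallyNoetherian Y]

/-- The components of a fibre inject into the fibre of the finite part. -/
theorem exists_injective_components (y : Y) :
    ∃ ι : _root_.ConnectedComponents ↥(f.fiber y) → ↥(f.fromNormalization.fiber y), Function.Injective ι := by
  obtain ⟨-, -, h⟩ := fibre_components f y
  refine ⟨Quotient.lift _ fun x x' e => (h x x').2 e, ?_⟩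
  rintro ⟨x⟩ ⟨x'⟩ e
  exact Quotient.sound ((h x x').1 e)

theorem finite_components (y : Y) : Finite (_root_.ConnectedComponents ↥(f.fiber y)) := by
  haveI := (fibre_components f y).1
  obtain ⟨ι, hι⟩ := exists_injective_components f y
  exact Finite.of_injective ι hι

theorem mk_components_le (y : Y) (h : f.base (genericPoint X) ⤳ y) :
    Cardinal.mk (_root_.ConnectedComponents ↥(f.fiber y)) ≤
      Cardinal.mk (MaximalSpectrum ↥(CohIII.integralClosureStalk f y h)) := by
  obtain ⟨ι, hι⟩ := exists_injective_components f y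
  obtain ⟨σ, hσ⟩ := exists_surjective_fiber f y h
  exact (Cardinal.mk_le_of_injective hι).trans (Cardinal.mk_le_of_surjective hσ)

/-- A fibre is connected if the integral closure of the local ring in the function field is local. -/
theorem connectedSpace_of_subsingleton (y : Y) (h : f.base (genericPoint X) ⤳ y)
    [Subsingleton (MaximalSpectrum ↥(CohIII.integralClosureStalk f y h))] :
    ConnectedSpace ↥(f.fiber y) := by
  obtain ⟨ι, hι⟩ := exists_injective_components f y
  obtain ⟨σ, hσ⟩ := exists_surjective_fiber f y h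
  haveI : Subsingleton ↥(f.fromNormalization.fiber y) := hσ.subsingleton
  haveI : Subsingleton (_root_.ConnectedComponents ↥(f.fiber y)) := hι.subsingleton
  haveI : Nonempty ↥(f.fiber y) := by
    obtain ⟨x, hx⟩ := h.mem_closed f.isClosedMap.isClosed_range ⟨genericPoint X, rfl⟩
    exact ⟨(f.fiberHomeo y).symm ⟨x, hx⟩⟩
  haveI : PreconnectedSpace ↥(f.fiber y) := preconnectedSpace_iff_connectedComponent.2 fun x =>
    Set.eq_univ_of_forall fun x' => by
      rw [show connectedComponent x = connectedComponent x' from
        ConnectedComponents.coe_eq_coe.1 (Subsingleton.elim _ _)]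
      exact mem_connectedComponent
  exact ⟨inferInstance⟩

end Groth.Agent.SteinConn
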