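import Groth.Agent.SteinConn.General
import Groth.Agent.NormalTensor.NormRed
import Groth.Agent.BlowExistsLib.Proper
import Groth.Agent.S2348

/-!
# Connectedness of the closed fibre of a modification of a unibranch local domain
-/

set_option autoImplicit false
set_option backward.isDefEq.respectTransparency false
set_option linter.style.haveILetI false
set_option linter.unusedSectionVars false

universe u

open CategoryTheory CategoryTheory.Limits AlgebraicGeometry

noncomputable section

namespace Groth.Agent.SteinConn

/-- An integral algebra inside the fraction field of a unibranch local domain is local. -/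
theorem isLocalRing_of_unibranch {A B K : Type u} [CommRing A] [IsDomain A] [IsLocalRing A]
    (hA : CAlg2.IsUnibranch A) [Field K] [Algebra A K] [IsFractionRing A K] [CommRing B] [Nontrivial B]
    [Algebra A B] [Algebra.IsIntegral A B] (φ : B →ₐ[A] K) (hφ : Function.Injective φ) : IsLocalRing B := by
  obtain ⟨e, -⟩ := NormalTensor.exists_normRed_equiv (B := A) (C := A) (C' := integralClosure A K) (Q := K)
    (RingHom.id A) Function.surjective_id (by
      rw [nilradical_eq_zero]
      exact (RingHom.injective_iff_ker_eq_bot _).1 Function.injective_id)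
  haveI := hA.2
  haveI : IsLocalRing (integralClosure A K) := e.isLocalRing
  let g : B →ₐ[A] integralClosure A K := φ.codRestrict (integralClosure A K) fun z =>
    (Algebra.IsIntegral.isIntegral (R := A) z).map φ
  have hg : Function.Injective g := fun x y h => hφ (congrArg Subtype.val h)
  letI := g.toRingHom.toAlgebra
  haveI : IsScalarTower A B (integralClosure A K) := IsScalarTower.of_algebraMap_eq fun a => (g.commutes a).symm
  haveI : Algebra.IsIntegral B (integralClosure A K) :=
    ⟨fun z => (Algebra.IsIntegral.isIntegral (R := A) z).tower_top⟩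
  refine IsLocalRing.of_unique_max_ideal ⟨(IsLocalRing.maximalIdeal (integralClosure A K)).comap g.toRingHom,
    Ideal.isMaximal_comap_of_isIntegral_of_isMaximal (R := B) (IsLocalRing.maximalIdeal (integralClosure A K)), ?_⟩
  intro M hM
  obtain ⟨Q, -, hQ, hQM⟩ := Ideal.exists_ideal_over_prime_of_isIntegral M (⊥ : Ideal (integralClosure A K)) (by
    rw [← RingHom.ker_eq_comap_bot]
    exact le_of_eq_of_le ((RingHom.injective_iff_ker_eq_bot _).1 hg) bot_le)
  haveI := hQ
  haveI : (Q.comap (algebraMap B (integralClosure A K))).IsMaximal := hQM.symm ▸ hM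
  have hQm : Q.IsMaximal := Ideal.isMaximal_of_isIntegral_of_isMaximal_comap Q this
  rw [← hQM, IsLocalRing.eq_maximalIdeal hQm]
  rfl

variable {A : Type u} [CommRing A] [IsDomain A] [IsLocalRing A] {X : Scheme.{u}} [IsIntegral X]
  (b : X ⟶ Spec (CommRingCat.of A)) [IsProper b]

theorem preconnectedSpace_closedFibre_of_birational (hA : CAlg2.IsUnibranch A)
    (hgen : b (genericPoint X) = genericPoint ↥(Spec (CommRingCat.of A)))
    (hbij : Function.Bijective (b.residueFieldMap (genericPoint X)).hom) :
    PreconnectedSpace ↥(b.fiber (IsLocalRing.closedPoint A)) := by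
  let Y := Spec (CommRingCat.of A)
  let K : Type u := X.functionField
  haveI : Nonempty (⊤ : X.Opens) := ⟨⟨genericPoint X, trivial⟩⟩
  haveI : Nonempty (b ⁻¹ᵁ ⊤ : X.Opens) := ⟨⟨genericPoint X, trivial⟩⟩
  let ψ : A →+* K := ((X.germToFunctionField ⊤).hom.comp b.appTop.hom).comp (Scheme.ΓSpecIso (CommRingCat.of A)).inv.hom
  letI : Algebra A K := ψ.toAlgebra
  haveI : IsFractionRing A K := by
    have hfld : IsField (Y.presheaf.stalk (b (genericPoint X))) := by
      rw [hgen]
      exact Field.toIsField Y.functionField
    let s := (b.stalkMap (genericPoint X)).hom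
    have hs : Function.Bijective s := by
      letI := hfld.toField
      refine ⟨RingHom.injective _, fun z => ?_⟩
      obtain ⟨w, hw⟩ := hbij.2 (IsLocalRing.residue _ z)
      obtain ⟨v, rfl⟩ := IsLocalRing.residue_surjective w
      refine ⟨v, ?_⟩
      have hinj : Function.Injective (IsLocalRing.residue (X.presheaf.stalk (genericPoint X))) := by
        rw [RingHom.injective_iff_ker_eq_bot, IsLocalRing.ker_residue]
        exact IsLocalRing.isField_iff_maximalIdeal_eq.1 (Field.toIsField X.functionField)
      exact hinj hw
    have hloc : ∀ y : ↥Y, ∃ alg : Algebra A (Y.presheaf.stalk y),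
        @IsLocalization.AtPrime A _ (Y.presheaf.stalk y) _ alg y.asIdeal y.isPrime ∧
        ∀ a, @algebraMap A _ _ _ alg a = Y.presheaf.germ ⊤ y trivial ((Scheme.ΓSpecIso (CommRingCat.of A)).inv a) :=
      fun y => ⟨StructureSheaf.stalkAlgebra A y,
        StructureSheaf.IsLocalization.to_stalk A y, fun a => rfl⟩
    obtain ⟨alg, hl, halg⟩ := hloc (b (genericPoint X))
    letI := alg
    haveI : IsFractionRing A (Y.presheaf.stalk (b (genericPoint X))) := by
      have h0 : (b (genericPoint X)).asIdeal.primeCompl = nonZeroDivisors A := by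
        rw [hgen, genericPoint_eq_bot_of_affine]
        ext a
        simp [Ideal.primeCompl]
      show IsLocalization (nonZeroDivisors A) _
      rw [← h0]
      exact hl
    exact IsLocalization.isLocalization_of_algEquiv (nonZeroDivisors A)
      (AlgEquiv.ofRingEquiv (f := RingEquiv.ofBijective s hs) fun a => by
        show s (algebraMap A _ a) = ψ a
        rw [halg]
        exact Scheme.Hom.germ_stalkMap_apply b ⊤ (genericPoint X) trivial _)
  let N := b.normalization
  haveI : IsAffine N := isAffine_of_isAffineHom b.fromNormalization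
  let θ : CommRingCat.of A ⟶ Γ(N, ⊤) := (Scheme.ΓSpecIso (CommRingCat.of A)).inv ≫ b.fromNormalization.appTop
  letI : Algebra A Γ(N, ⊤) := θ.hom.toAlgebra
  have hint : θ.hom.IsIntegral := by
    refine RingHom.IsIntegral.trans _ _ (RingHom.isIntegral_of_surjective _ ?_)
      (b.fromNormalization.isIntegral_app ⊤ (isAffineOpen_top _))
    exact (ConcreteCategory.bijective_of_isIso (Scheme.ΓSpecIso (CommRingCat.of A)).inv).2
  haveI : Algebra.IsIntegral A Γ(N, ⊤) := ⟨hint⟩
  haveI : Nonempty ↥N := ⟨b.toNormalization (genericPoint X)⟩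
  haveI : Nontrivial Γ(N, ⊤) := by
    haveI : Nonempty (⊤ : N.Opens) := ⟨⟨Classical.arbitrary _, trivial⟩⟩
    infer_instance
  let φ : Γ(N, ⊤) →ₐ[A] K :=
    { toRingHom := (X.germToFunctionField ⊤).hom.comp b.toNormalization.appTop.hom
      commutes' := fun a => by
        show (X.germToFunctionField ⊤).hom (b.toNormalization.appTop.hom
          (b.fromNormalization.appTop.hom ((Scheme.ΓSpecIso (CommRingCat.of A)).inv.hom a))) =
          (X.germToFunctionField ⊤).hom (b.appTop.hom ((Scheme.ΓSpecIso (CommRingCat.of A)).inv.hom a))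
        rw [← CommRingCat.comp_apply b.fromNormalization.appTop, ← Scheme.Hom.comp_appTop,
          b.toNormalization_fromNormalization] }
  haveI : IsLocalRing Γ(N, ⊤) := isLocalRing_of_unibranch hA φ
    ((germ_injective_of_isIntegral X (genericPoint X) (U := b.toNormalization ⁻¹ᵁ ⊤) trivial).comp (bijApp_toNormalization b ⊤).1)
  let c := IsLocalRing.closedPoint A
  have hsub : (b.fromNormalization ⁻¹' {c}).Subsingleton := by
    intro n₁ h₁ n₂ h₂
    have key : ∀ n : N, b.fromNormalization n = c → N.isoSpec.hom n = IsLocalRing.closedPoint Γ(N, ⊤) := by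
      intro n hn
      have hφ : N.isoSpec.inv ≫ b.fromNormalization = Spec.map θ := by
        rw [← cancel_epi N.isoSpec.hom, Iso.hom_inv_id_assoc, Spec.map_comp, Scheme.isoSpec_hom,
          ← Scheme.toSpecΓ_naturality_assoc]
        simp
      have h : PrimeSpectrum.comap θ.hom (N.isoSpec.hom n) = c := by
        rw [← hn]
        show Spec.map θ (N.isoSpec.hom n) = _
        rw [← Scheme.Hom.comp_apply, ← hφ, Iso.hom_inv_id_assoc]
      refine PrimeSpectrum.ext (IsLocalRing.eq_maximalIdeal ?_)
      refine Ideal.isMaximal_of_isIntegral_of_isMaximal_comap (R := A) (S := Γ(N, ⊤)) _ ?_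
      show (PrimeSpectrum.comap θ.hom (N.isoSpec.hom n)).asIdeal.IsMaximal
      rw [h]
      exact IsLocalRing.maximalIdeal.isMaximal A
    exact N.isoSpec.hom.homeomorph.injective ((key _ h₁).trans (key _ h₂).symm)
  haveI := geometricallyConnected_toNormalization' b
  have hpre : _root_.IsPreconnected (b ⁻¹' {c}) := by
    rw [← b.toNormalization_fromNormalization, Scheme.Hom.comp_base, TopCat.coe_comp, Set.preimage_comp]
    rcases hsub.eq_empty_or_singleton with h | ⟨n, h⟩
    · rw [h, Set.preimage_empty]; exact isPreconnected_empty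
    · rw [h]
      haveI : ConnectedSpace ↥(b.toNormalization.fiber n) := inferInstance
      rw [← Scheme.Hom.range_fiberι]
      exact isPreconnected_range (b.toNormalization.fiberι n).continuous
  rw [← b.range_fiberι, ← Set.image_univ] at hpre
  exact ⟨(b.fiberι c).isEmbedding.isInducing.isPreconnected_image.1 hpre⟩

end Groth.Agent.SteinConn
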