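import Groth.Agent.SteinConn.UnivHomeo
import Groth.Agent.SteinConn.Count

/-!
# Connected fibres of universally open morphisms with radicial algebraic closure of the base field
-/

set_option autoImplicit false
set_option backward.isDefEq.respectTransparency false
set_option linter.style.haveILetI false
set_option linter.unusedSectionVars false

universe u

open CategoryTheory CategoryTheory.Limits AlgebraicGeometry TopologicalSpace

noncomputable section

namespace Groth.Agent.SteinConn

variable {X Y : Scheme.{u}} [IsIntegral X] [IsIntegral Y] (f : X ⟶ Y) [IsProper f]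

theorem fromNormalization_generic_eq (hdom : f.base (genericPoint X) ⤳ genericPoint Y)
    (hrad : ∀ x : X.functionField,
      (∃ q : Polynomial Y.functionField, q ≠ 0 ∧
        Polynomial.eval₂ (CohIII.stalkToFunctionField f (genericPoint Y) hdom) x q = 0) →
      ∃ e : ℕ, x ^ (ringExpChar X.functionField ^ e) ∈
        Set.range (CohIII.stalkToFunctionField f (genericPoint Y) hdom))
    {L : Type u} [Field L] (g g' : Spec (CommRingCat.of L) ⟶ f.normalization)
    (hg : g ≫ f.fromNormalization = g' ≫ f.fromNormalization)
    (hη : (g ≫ f.fromNormalization) (IsLocalRing.closedPoint L) = genericPoint Y) : g = g' := by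
  let ν := f.fromNormalization
  let φ := CohIII.stalkToFunctionField f (genericPoint Y) hdom
  obtain ⟨_, ⟨V : Y.Opens, hV, rfl⟩, hx, -⟩ :=
    Y.isBasis_affineOpens.exists_subset_of_mem_open (Set.mem_univ (genericPoint Y)) isOpen_univ
  let W := ν ⁻¹ᵁ V
  have hW : IsAffineOpen W := hV.preimage ν
  haveI : Nonempty V := ⟨⟨_, hx⟩⟩
  let A := Γ(Y, V)
  letI : Algebra A Γ(f.normalization, W) := (ν.app V).hom.toAlgebra
  have hsq : ∀ (a : Γ(f.normalization, W) →+* L),
      (Spec.map (CommRingCat.ofHom a) ≫ hW.fromSpec) ≫ ν =
        Spec.map (CommRingCat.ofHom (a.comp (algebraMap A Γ(f.normalization, W)))) ≫ hV.fromSpec := by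
    intro a
    rw [CommRingCat.ofHom_comp, Spec.map_comp, Category.assoc, Category.assoc]
    congr 1
    have e := IsAffineOpen.SpecMap_appLE_fromSpec ν hV hW le_rfl
    rw [Scheme.Hom.appLE_eq_app] at e
    exact e.symm
  have hmem : ∀ k : Spec (CommRingCat.of L) ⟶ f.normalization, k ≫ ν = g ≫ ν →
      Set.range k ⊆ Set.range hW.fromSpec := fun k hk => by
    rintro _ ⟨z, rfl⟩
    rw [hW.range_fromSpec]
    show ν (k z) ∈ V
    rw [← Scheme.Hom.comp_apply, hk, Subsingleton.elim z (IsLocalRing.closedPoint L), hη]
    exact hx
  obtain ⟨a₁, ha₁⟩ := Spec.map_surjective (IsOpenImmersion.lift hW.fromSpec g (hmem g rfl))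
  obtain ⟨a₂, ha₂⟩ := Spec.map_surjective (IsOpenImmersion.lift hW.fromSpec g' (hmem g' hg.symm))
  have e₁ : Spec.map (CommRingCat.ofHom a₁.hom) ≫ hW.fromSpec = g := by
    show Spec.map a₁ ≫ _ = g
    rw [ha₁, IsOpenImmersion.lift_fac]
  have e₂ : Spec.map (CommRingCat.ofHom a₂.hom) ≫ hW.fromSpec = g' := by
    show Spec.map a₂ ≫ _ = g'
    rw [ha₂, IsOpenImmersion.lift_fac]
  have hA : a₁.hom.comp (algebraMap A Γ(f.normalization, W)) = a₂.hom.comp (algebraMap A Γ(f.normalization, W)) := by
    have h1 : g ≫ ν = g' ≫ ν := hg
    rw [← e₁, ← e₂, hsq, hsq, cancel_mono] at h1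
    exact congrArg CommRingCat.Hom.hom (Spec.map_injective h1)
  have hinjA : Function.Injective (a₁.hom.comp (algebraMap A Γ(f.normalization, W))) := by
    haveI : Nonempty ↥(Spec Γ(Y, V)) := ⟨⟨⊥, Ideal.isPrime_bot⟩⟩
    have h2 := hη
    rw [← e₁, hsq, ← genericPoint_eq_of_isOpenImmersion hV.fromSpec, genericPoint_eq_bot_of_affine Γ(Y, V),
      Scheme.Hom.comp_apply] at h2
    have h3 := congrArg PrimeSpectrum.asIdeal (hV.fromSpec.isOpenEmbedding.injective h2)
    refine (RingHom.injective_iff_ker_eq_bot _).2 ?_
    rw [RingHom.ker_eq_comap_bot, ← IsLocalRing.maximalIdeal_eq_bot]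
    exact h3
  suffices key : ∀ s, a₁.hom s = a₂.hom s by
    rw [← e₁, ← e₂, RingHom.ext key]
  intro s
  have hmemX : genericPoint X ∈ f.toNormalization ⁻¹ᵁ W := by
    show ν (f.toNormalization (genericPoint X)) ∈ V
    rw [← Scheme.Hom.comp_apply, f.toNormalization_fromNormalization]
    exact hdom.mem_open V.2 hx
  let ε : Γ(f.normalization, W) →+* X.functionField :=
    ((X.presheaf.germ (f.toNormalization ⁻¹ᵁ W) (genericPoint X) hmemX).hom).comp (f.toNormalization.app W).hom
  have hεinj : Function.Injective ε := fun a b hab =>
    injective_toNormalization_app f hW (@germ_injective_of_isIntegral X _ _ (genericPoint X) hmemX _ _ hab)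
  haveI : IsFractionRing A Y.functionField := functionField_isFractionRing_of_isAffineOpen Y V hV
  have hε : ∀ r, ε (algebraMap A Γ(f.normalization, W) r) = φ (algebraMap A Y.functionField r) := fun r => by
    show _ = φ ((Y.presheaf.germ V (genericPoint Y) hx).hom r)
    rw [stalkToFunctionField_germ f (genericPoint Y) hdom V hx r]
    show (X.presheaf.germ (f.toNormalization ⁻¹ᵁ W) (genericPoint X) hmemX).hom
        ((f.toNormalization.app W).hom ((ν.app V).hom r)) = _
    rw [← CommRingCat.comp_apply (ν.app V), ← Scheme.Hom.comp_app]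
    have key : ∀ (k : X ⟶ Y) (h₁ : genericPoint X ∈ k ⁻¹ᵁ V) (h₂ : genericPoint X ∈ f ⁻¹ᵁ V), k = f →
        (X.presheaf.germ (k ⁻¹ᵁ V) (genericPoint X) h₁).hom ((k.app V).hom r) =
        (X.presheaf.germ (f ⁻¹ᵁ V) (genericPoint X) h₂).hom ((f.app V).hom r) := by
      rintro k h₁ h₂ rfl
      rfl
    exact key _ hmemX _ f.toNormalization_fromNormalization
  obtain ⟨p, hp, hp0⟩ := ν.isIntegral_app V hV s
  obtain ⟨e, c, hc⟩ := hrad (ε s) ⟨p.map (algebraMap A Y.functionField),
    (hp.map (algebraMap A Y.functionField)).ne_zero, by
      rw [Polynomial.eval₂_map]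
      have hcomp : φ.comp (algebraMap A Y.functionField) = ε.comp (algebraMap A Γ(f.normalization, W)) :=
        RingHom.ext fun r => (hε r).symm
      show Polynomial.eval₂ (φ.comp _) (ε s) p = 0
      rw [hcomp, ← Polynomial.hom_eval₂, show Polynomial.eval₂ (algebraMap A Γ(f.normalization, W)) s p = 0 from hp0,
        map_zero]⟩
  obtain ⟨a, b, hb, rfl⟩ := IsFractionRing.div_surjective A c
  have hb0 : φ (algebraMap A Y.functionField b) ≠ 0 :=
    fun h => nonZeroDivisors.ne_zero hb (IsFractionRing.injective A Y.functionField
      ((φ.injective (h.trans (map_zero φ).symm)).trans (map_zero _).symm))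
  set q := ringExpChar X.functionField ^ e with hq
  have heq : algebraMap A Γ(f.normalization, W) b * s ^ q = algebraMap A Γ(f.normalization, W) a := by
    refine hεinj ?_
    rw [map_mul, map_pow, hε, hε, ← hc, map_div₀, mul_div_cancel₀ _ hb0]
  have h1 := congrArg a₁.hom heq
  have h2 := congrArg a₂.hom heq
  simp only [map_mul, map_pow] at h1 h2
  have hAb := RingHom.congr_fun hA b
  have hAa := RingHom.congr_fun hA a
  simp only [RingHom.comp_apply] at hAb hAa
  rw [← hAb, ← hAa, ← h1] at h2
  have hs : a₂.hom s ^ q = a₁.hom s ^ q := mul_left_cancel₀ (fun h => nonZeroDivisors.ne_zero hb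
    (hinjA (h.trans (map_zero _).symm))) h2
  rcases expChar_is_prime_or_one X.functionField (ringExpChar X.functionField) with hp' | h'
  · haveI hF : ExpChar X.functionField (ringExpChar X.functionField) := inferInstance
    haveI hA' : ExpChar A (ringExpChar X.functionField) :=
      ((φ.comp (algebraMap A Y.functionField)).expChar_iff
        (φ.injective.comp (IsFractionRing.injective A Y.functionField)) _).2 hF
    haveI : ExpChar L (ringExpChar X.functionField) := expChar_of_injective_ringHom hinjA _
    exact (iterateFrobenius_inj L (ringExpChar X.functionField) e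
      (by simpa only [iterateFrobenius_def] using hs)).symm
  · rw [hq, h', one_pow, pow_one, pow_one] at hs
    exact hs.symm

/-- The finite part of a universally open morphism with radicial algebraic closure is radicial. -/
theorem universallyInjective_fromNormalization_of_univOpen [IsLocallyNoetherian Y]
    (hdom : f.base (genericPoint X) ⤳ genericPoint Y)
    (hopen : ∀ (Y' : Scheme.{u}) (g : Y' ⟶ Y), IrreducibleSpace ↥Y' → IsLocallyNoetherian Y' →
      IsDominant g → ∀ Z ∈ irreducibleComponents ↥(pullback f g), Dense ((pullback.snd f g).base '' Z))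
    (hrad : ∀ x : X.functionField,
      (∃ q : Polynomial Y.functionField, q ≠ 0 ∧
        Polynomial.eval₂ (CohIII.stalkToFunctionField f (genericPoint Y) hdom) x q = 0) →
      ∃ e : ℕ, x ^ (ringExpChar X.functionField ^ e) ∈
        Set.range (CohIII.stalkToFunctionField f (genericPoint Y) hdom)) :
    UniversallyInjective f.fromNormalization := by
  let ν := f.fromNormalization
  haveI := surjective_of_bijApp f.toNormalization (bijApp_toNormalization f)
  haveI := isLocallyNoetherian_normalization f
  have hgen : f (genericPoint X) = genericPoint Y := (hdom.antisymm (genericPoint_specializes _)).eq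
  haveI : Surjective f := ⟨fun y => by
    have h : genericPoint Y ∈ Set.range f := ⟨_, hgen⟩
    exact ((genericPoint_specializes y).mem_closed f.isClosedMap.isClosed_range h)⟩
  haveI : Surjective (f.toNormalization ≫ f.fromNormalization) := by
    rw [f.toNormalization_fromNormalization]; infer_instance
  haveI : Surjective f.fromNormalization := Surjective.of_comp f.toNormalization _
  refine ((tfae_universallyInjective ν).out 3 0).1 ?_
  refine ⟨fun z => ?_⟩
  let m := pullback.map f ν ν ν f.toNormalization (𝟙 _) (𝟙 _)
    (by rw [Category.comp_id, f.toNormalization_fromNormalization]) (by simp)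
  haveI : Surjective m := MorphismProperty.pullbackMap (P := @Surjective) ‹Surjective f.toNormalization›
    (inferInstance : Surjective (𝟙 f.normalization)) f.toNormalization_fromNormalization.symm (Category.id_comp _).symm
  obtain ⟨x, rfl⟩ := m.surjective z
  have hZ := irreducibleComponent_mem_irreducibleComponents x
  obtain ⟨w, hw⟩ := QuasiSober.sober hZ.1 (isClosed_irreducibleComponent (x := x))
  have hwx : w ⤳ x := specializes_iff_mem_closure.2 (hw.symm ▸ mem_irreducibleComponent)
  have hd := hopen f.normalization ν inferInstance inferInstance inferInstance _ hZ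
  have hwgen : pullback.snd f ν w = genericPoint f.normalization := by
    refine IsGenericPoint.eq ?_ (genericPoint_spec _)
    refine Set.eq_univ_of_univ_subset ?_
    rw [← hd.closure_eq]
    refine closure_minimal ?_ isClosed_closure
    rintro _ ⟨v, hv, rfl⟩
    exact specializes_iff_mem_closure.1 ((hw.specializes hv).map (pullback.snd f ν).continuous)
  let c := pullback ν ν
  let L := c.residueField (m w)
  let k := c.fromSpecResidueField (m w)
  have hcl : ∀ t : Spec L ⟶ c, t = k → t (IsLocalRing.closedPoint _) = m w := by
    rintro t rfl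
    exact Scheme.fromSpecResidueField_apply _ _
  have heq : k ≫ pullback.fst ν ν = k ≫ pullback.snd ν ν := by
    refine fromNormalization_generic_eq f hdom hrad (L := L) _ _ (by rw [Category.assoc, Category.assoc, pullback.condition]) ?_
    rw [Category.assoc, pullback.condition, Scheme.Hom.comp_apply, Scheme.Hom.comp_apply]
    refine (congrArg (fun v => ν (pullback.snd ν ν v)) (hcl k rfl)).trans ?_
    show ν (pullback.snd ν ν (m w)) = _
    rw [← Scheme.Hom.comp_apply m (pullback.snd ν ν)]
    rw [show m ≫ pullback.snd ν ν = pullback.snd f ν by simp [m], hwgen]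
    have hν : ν (f.toNormalization (genericPoint X)) = genericPoint Y := by
      rw [← Scheme.Hom.comp_apply, f.toNormalization_fromNormalization, hgen]
    refine ((?_ : ν (genericPoint f.normalization) ⤳ genericPoint Y).antisymm (genericPoint_specializes _)).eq
    rw [← hν]
    exact (genericPoint_specializes _).map ν.continuous
  have hmw : m w ∈ Set.range (pullback.diagonal ν) := by
    have : k = (k ≫ pullback.fst ν ν) ≫ pullback.diagonal ν := by
      apply pullback.hom_ext
      · simp
      · simp [heq]
    exact ⟨(k ≫ pullback.fst ν ν) (IsLocalRing.closedPoint _), by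
      rw [← Scheme.Hom.comp_apply, ← this, hcl k rfl]⟩
  exact (hwx.map m.continuous).mem_closed (pullback.diagonal ν).isClosedEmbedding.isClosed_range hmw

/-- Fibres of a universally open proper morphism are geometrically connected. -/
theorem geometricallyConnected_of_univOpen [IsLocallyNoetherian Y]
    (hdom : f.base (genericPoint X) ⤳ genericPoint Y)
    (hopen : ∀ (Y' : Scheme.{u}) (g : Y' ⟶ Y), IrreducibleSpace ↥Y' → IsLocallyNoetherian Y' →
      IsDominant g → ∀ Z ∈ irreducibleComponents ↥(pullback f g), Dense ((pullback.snd f g).base '' Z))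
    (hrad : ∀ x : X.functionField,
      (∃ q : Polynomial Y.functionField, q ≠ 0 ∧
        Polynomial.eval₂ (CohIII.stalkToFunctionField f (genericPoint Y) hdom) x q = 0) →
      ∃ e : ℕ, x ^ (ringExpChar X.functionField ^ e) ∈
        Set.range (CohIII.stalkToFunctionField f (genericPoint Y) hdom)) :
    GeometricallyConnected f := by
  haveI := universallyInjective_fromNormalization_of_univOpen f hdom hopen hrad
  haveI : Surjective f := ⟨fun y => by
    have h : genericPoint Y ∈ Set.range f := ⟨_, (hdom.antisymm (genericPoint_specializes _)).eq⟩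
    exact ((genericPoint_specializes y).mem_closed f.isClosedMap.isClosed_range h)⟩
  haveI : Surjective (f.toNormalization ≫ f.fromNormalization) := by
    rw [f.toNormalization_fromNormalization]; infer_instance
  haveI : Surjective f.fromNormalization := Surjective.of_comp f.toNormalization _
  haveI := geometricallyConnected_toNormalization' f
  have := geometricallyConnected_comp f.toNormalization f.fromNormalization
  rwa [f.toNormalization_fromNormalization] at this

end Groth.Agent.SteinConn
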